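import Cfsg.Agent.Lib.Sporadic.RuLattice.ImgCert0

/-! The images of the spanning vectors lie in the lattice. -/

set_option autoImplicit false
set_option maxRecDepth 100000
set_option Elab.async false

namespace CfsgLib.Sporadic.RuLattice

open CfsgLib.Recognition.RuLattice

theorem imgCert2_0 : allFrom 0 32 (imgCertAt 2) = true := by decide +kernel

theorem imgCert2_1 : allFrom 32 32 (imgCertAt 2) = true := by decide +kernel

theorem imgCert2_2 : allFrom 64 32 (imgCertAt 2) = true := by decide +kernel

theorem imgCert3_0 : allFrom 0 32 (imgCertAt 3) = true := by decide +kernel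

theorem imgCert3_1 : allFrom 32 32 (imgCertAt 3) = true := by decide +kernel

theorem imgCert3_2 : allFrom 64 32 (imgCertAt 3) = true := by decide +kernel

end CfsgLib.Sporadic.RuLattice
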