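import Cfsg.Agent.Lib.Sporadic.Chain
import Cfsg.Agent.Lib.Recognition.RuLattice.Minimum

/-! Searches in sorted tables and the scan of the binary code, as kernel-friendly recursions. -/

set_option autoImplicit false

namespace CfsgLib.Sporadic.RuLattice

open CfsgLib.Recognition.RuLattice (Combo weight eightT)

/-- Bisection for `a` in a sorted table. -/
noncomputable def findT (T : Tr) (a fuel : ℕ) : ℕ → ℕ → ℕ :=
  Nat.rec (fun lo _ => lo)
    (fun _ ih lo hi => bif Nat.ble (T.get ((lo + hi) / 2)) a then ih ((lo + hi) / 2) hi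
      else ih lo ((lo + hi) / 2)) fuel

/-- `a` occurs among the first `n` entries of a sorted table. -/
noncomputable def inT (T : Tr) (n a : ℕ) : Bool := T.get (findT T a 15 0 n) == a

theorem findT_lt {T : Tr} {a n : ℕ} : ∀ fuel lo hi, lo < n → hi ≤ n → findT T a fuel lo hi < n
  | 0, lo, hi, h, _ => h
  | fuel + 1, lo, hi, h, h' => by
    change (bif Nat.ble (T.get ((lo + hi) / 2)) a then findT T a fuel ((lo + hi) / 2) hi
      else findT T a fuel lo ((lo + hi) / 2)) < n
    cases Nat.ble (T.get ((lo + hi) / 2)) a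
    · exact findT_lt fuel _ _ h (by omega)
    · exact findT_lt fuel _ _ (by omega) h'

theorem exists_of_inT {T : Tr} {n a : ℕ} (hn : 0 < n) (h : inT T n a = true) :
    ∃ i < n, T.get i = a :=
  ⟨_, findT_lt 15 0 n hn le_rfl, beq_iff_eq.1 h⟩

/-- A test at every combination of a list of words, shifted by `a`. -/
noncomputable def allCombo (p : ℕ → Bool) (l : List ℕ) : ℕ → Bool :=
  List.rec p (fun g _ ih a => ih a && ih (a ^^^ g)) l

theorem allCombo_spec {p : ℕ → Bool} {l : List ℕ} {w : ℕ} (hw : Combo l w) :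
    ∀ a, allCombo p l a = true → p (a ^^^ w) = true := by
  induction hw with
  | nil => intro a h; rw [Nat.xor_zero]; exact h
  | @skip g l w _ ih =>
    intro a h
    exact ih a (Bool.and_eq_true_iff.1 h).1
  | @take g l w _ ih =>
    intro a h
    have := ih _ (Bool.and_eq_true_iff.1 h).2
    rwa [Nat.xor_assoc, Nat.xor_comm g w] at this

theorem allCombo_cons {p : ℕ → Bool} {g : ℕ} {l : List ℕ} {a : ℕ} (h : allCombo p l a = true)
    (h' : allCombo p l (a ^^^ g) = true) : allCombo p (g :: l) a = true :=
  Bool.and_eq_true_iff.2 ⟨h, h'⟩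

end CfsgLib.Sporadic.RuLattice
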