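import Cfsg.Agent.Lib.Sporadic.RuLattice.Lattice
import Cfsg.Agent.Lib.Sporadic.RuLattice.DataPar
import Cfsg.Agent.Lib.Sporadic.RuLattice.DataMin
import Cfsg.Agent.Lib.Sporadic.RuLattice.Search

/-! Congruences modulo 4 satisfied by the vectors of the lattice, and keys of short vectors. -/

set_option autoImplicit false
set_option maxRecDepth 100000
set_option Elab.async false

namespace CfsgLib.Sporadic.RuLattice

open CfsgLib.Recognition.RuLattice

/-- Horner evaluation in base sixteen. -/
def keyL : List ℕ → ℕ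
  | [] => 0
  | a :: l => a + 16 * keyL l

theorem keyL_ofFn : ∀ {n : ℕ} (f : Fin n → ℕ), keyL (List.ofFn f) = ∑ i, f i * 16 ^ i.val
  | 0, f => by simp [keyL]
  | n + 1, f => by
    rw [List.ofFn_succ, keyL, keyL_ofFn, Fin.sum_univ_succ, Finset.mul_sum]
    simp only [Fin.val_zero, pow_zero, mul_one, Fin.val_succ, pow_succ]
    refine congrArg (f 0 + ·) (Finset.sum_congr rfl fun i _ => ?_)
    ring

theorem keyL_digit : ∀ (l : List ℕ) (j : ℕ), (∀ a ∈ l, a < 16) →
    keyL l >>> (4 * j) % 16 = l.getD j 0
  | [], j, _ => by simp [keyL]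
  | a :: l, 0, h => by
    have := h a List.mem_cons_self
    simp only [keyL, Nat.mul_zero, Nat.shiftRight_zero, List.getD_cons_zero]
    omega
  | a :: l, j + 1, h => by
    have ha := h a List.mem_cons_self
    rw [keyL, List.getD_cons_succ, ← keyL_digit l j fun b hb => h b (List.mem_cons_of_mem _ hb),
      show 4 * (j + 1) = 4 + 4 * j by ring, Nat.shiftRight_add, Nat.shiftRight_eq_div_pow _ 4]
    congr 2
    omega

/-- The key of a short vector. -/
def key (x : Fin 56 → ℤ) : ℕ := keyL (List.ofFn fun i => (x i + 8).toNat)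

/-- The vector with a given key. -/
def decV (c : ℕ) : Fin 56 → ℤ := fun i => ((c >>> (4 * i.val) % 16 : ℕ) : ℤ) - 8

theorem decV_key {x : Fin 56 → ℤ} (h : ∀ i, -8 ≤ x i ∧ x i < 8) : decV (key x) = x := by
  funext i
  rw [decV, key, keyL_digit]
  · rw [List.getD_eq_getElem _ _ (by simp only [List.length_ofFn]; exact i.isLt), List.getElem_ofFn]
    simp only [Fin.eta]
    have := h i
    omega
  · intro a ha
    obtain ⟨j, rfl⟩ := List.mem_ofFn.1 ha
    have := h j
    omega

/-- The vectors in the table of keys. -/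
noncomputable def minV (i : ℕ) : Fin 56 → ℤ := decV (keyT.get i)

/-- The parity words. -/
def parW (k : Fin 19) : ℕ := (parA.map Prod.fst).getD k.val 0

/-- Their lifts. -/
def liftV (k : Fin 19) : Fin 56 → ℤ := fun i => (parLift.getD k.val []).getD i.val 0

theorem lift_cert : ∀ k : Fin 19, cert (parLiftCoef.getD k.val 0) (liftV k) = true := by
  decide +kernel

theorem lift_parity : ∀ k : Fin 19, ∀ i : Fin 56,
    decide (liftV k i % 2 = 1) = (parW k).testBit i.val := by
  decide +kernel

theorem parW_list : parA.map Prod.fst = List.ofFn parW := by decide +kernel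

/-- The column of the parity words at a position. -/
def col (i : Fin 56) : ℕ := Nat.ofBits fun k : Fin 19 => (parW k).testBit i.val

/-- Sums of columns. -/
noncomputable def cs (s : Finset (Fin 56)) : ℕ := s.fold (· ^^^ ·) 0 col

/-- The syndrome of a parity word. -/
def synv (P : ℕ) : ℕ := Nat.ofBits fun k : Fin 19 => decide
  (((List.finRange 56).map fun i => if P.testBit i.val then liftV k i else 0).sum / 2 % 2 = 1)

theorem testBit_col (i : Fin 56) (k : Fin 19) : (col i).testBit k.val = (parW k).testBit i.val := by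
  rw [col, Nat.testBit_ofBits_lt _ _ k.isLt]

theorem testBit_cs (s : Finset (Fin 56)) (k : Fin 19) :
    (cs s).testBit k.val = decide ((s.filter fun i => (parW k).testBit i.val = true).card % 2 = 1) := by
  induction s using Finset.induction_on with
  | empty => simp [cs]
  | @insert a s ha ih =>
    rw [cs, Finset.fold_insert ha, Nat.testBit_xor, ← cs, ih, testBit_col, Finset.filter_insert]
    by_cases h : (parW k).testBit a.val = true
    · rw [if_pos h, Finset.card_insert_of_notMem (by simp [ha]), h]
      rcases Nat.mod_two_eq_zero_or_one (s.filter fun i => (parW k).testBit i.val = true).card with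
        e | e <;> simp [Nat.add_mod, e]
    · rw [if_neg h, Bool.eq_false_iff.2 h, Bool.false_xor]

theorem testBit_cs_high (s : Finset (Fin 56)) {j : ℕ} (hj : 19 ≤ j) : (cs s).testBit j = false := by
  induction s using Finset.induction_on with
  | empty => simp [cs]
  | @insert a s ha ih =>
    rw [cs, Finset.fold_insert ha, Nat.testBit_xor, ← cs, ih, col, Nat.testBit_ofBits_ge _ _ hj]
    rfl

theorem cs_disjoint {s t : Finset (Fin 56)} (h : Disjoint s t) : cs (s ∪ t) = cs s ^^^ cs t := by
  rw [cs, cs, cs, ← Finset.disjUnion_eq_union s t h]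
  have e := Finset.fold_disjUnion (op := fun a b : ℕ => a ^^^ b) (f := col) (b₁ := 0) (b₂ := 0) h
  simpa using e

/-- The odd positions. -/
def oddS (x : Fin 56 → ℤ) : Finset (Fin 56) := Finset.univ.filter fun i => x i % 2 = 1

/-- The positions with coordinate 2 or 3 modulo 4. -/
def highS (x : Fin 56 → ℤ) : Finset (Fin 56) := Finset.univ.filter fun i => 2 ≤ x i % 4

theorem syn_eq {x : Fin 56 → ℤ} (hx : x ∈ span) {w : ℕ}
    (hw : ∀ i : Fin 56, w.testBit i.val = decide (x i % 2 = 1)) : cs (highS x) = synv w := by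
  refine Nat.eq_of_testBit_eq fun j => ?_
  rcases Nat.lt_or_ge j 19 with hj | hj
  swap
  · rw [testBit_cs_high _ hj, synv, Nat.testBit_ofBits_ge _ _ hj]
  have hcs := testBit_cs (highS x) ⟨j, hj⟩
  simp only at hcs
  rw [hcs, synv, Nat.testBit_ofBits_lt _ _ hj]
  set k : Fin 19 := ⟨j, hj⟩
  rw [← List.sum_toFinset _ (List.nodup_finRange 56), List.toFinset_finRange]
  set A := ∑ i, if w.testBit i.val then liftV k i else 0 with hA
  have h4 := dot_mem hx (mem_span_of_cert (lift_cert k))
  have h4' : (4 : ℤ) ∣ dot x (liftV k) - (A + 2 * ∑ i ∈ highS x, liftV k i) := by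
    rw [dot, hA, highS, Finset.sum_filter, Finset.mul_sum, ← Finset.sum_add_distrib,
      ← Finset.sum_sub_distrib]
    refine Finset.dvd_sum fun i _ => ?_
    rw [hw i]
    have h0 : x i % 4 = 0 ∨ x i % 4 = 1 ∨ x i % 4 = 2 ∨ x i % 4 = 3 := by omega
    obtain ⟨q, hq⟩ : (4 : ℤ) ∣ x i - x i % 4 := ⟨x i / 4, by omega⟩
    rcases h0 with e | e | e | e
    · rw [if_neg (by simpa using (show x i % 2 ≠ 1 by omega)), if_neg (by omega)]
      exact ⟨q * liftV k i, by rw [show x i = 4 * q by omega]; ring⟩
    · rw [if_pos (by simpa using (show x i % 2 = 1 by omega)), if_neg (by omega)]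
      exact ⟨q * liftV k i, by rw [show x i = 4 * q + 1 by omega]; ring⟩
    · rw [if_neg (by simpa using (show x i % 2 ≠ 1 by omega)), if_pos (by omega)]
      exact ⟨q * liftV k i, by rw [show x i = 4 * q + 2 by omega]; ring⟩
    · rw [if_pos (by simpa using (show x i % 2 = 1 by omega)), if_pos (by omega)]
      exact ⟨q * liftV k i, by rw [show x i = 4 * q + 3 by omega]; ring⟩
  have hB : (∑ i ∈ highS x, liftV k i) % 2 =
      (((highS x).filter fun i => (parW k).testBit i.val = true).card : ℤ) % 2 := by
    rw [Finset.sum_int_mod, ← Finset.sum_boole]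
    refine congrArg (· % 2) (Finset.sum_congr rfl fun i _ => ?_)
    rw [← lift_parity k i]
    rcases Int.emod_two_eq_zero_or_one (liftV k i) with e | e <;> simp [e]
  refine Bool.decide_congr ?_
  omega

theorem odd_card {x : Fin 56 → ℤ} {w : ℕ}
    (hw : ∀ i : Fin 56, w.testBit i.val = decide (x i % 2 = 1)) : (oddS x).card = weight w := by
  rw [weight_eq, Finset.sum_range, oddS, Finset.card_filter]
  refine Finset.sum_congr rfl fun i _ => ?_
  rw [hw i]
  by_cases h : x i % 2 = 1 <;> simp [h]

theorem card_le_dot (x : Fin 56 → ℤ) :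
    ((oddS x).card : ℤ) + 4 * (Finset.univ.filter fun i => x i % 4 = 2).card ≤ dot x x := by
  rw [oddS, ← Finset.sum_boole, ← Finset.sum_boole, Finset.mul_sum, ← Finset.sum_add_distrib, dot]
  refine Finset.sum_le_sum fun i _ => ?_
  by_cases h : x i % 2 = 1
  · rw [if_pos h, if_neg (by omega)]
    have : x i ≠ 0 := by omega
    have := mul_self_pos.2 this
    omega
  · rw [if_neg h]
    by_cases h' : x i % 4 = 2
    · rw [if_pos h']
      rcases (show 2 ≤ x i ∨ x i ≤ -2 by omega) with e | e <;> nlinarith
    · rw [if_neg h']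
      nlinarith [mul_self_nonneg (x i)]

theorem bounded_of_dot {x : Fin 56 → ℤ} (h : dot x x = 16) (i : Fin 56) : -8 ≤ x i ∧ x i < 8 := by
  have h1 : x i * x i ≤ dot x x :=
    Finset.single_le_sum (f := fun j => x j * x j) (fun j _ => mul_self_nonneg _) (Finset.mem_univ i)
  constructor <;> nlinarith

end CfsgLib.Sporadic.RuLattice
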