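import Cfsg.Agent.Lib.Sporadic.RuLattice.ReduceChecks
import Cfsg.Agent.Lib.Sporadic.RuLattice.Syndrome
import Cfsg.Agent.Lib.Sporadic.RuLattice.DataImg
import Cfsg.Agent.Lib.Sporadic.RuLattice.DataPack
import Cfsg.Agent.Lib.Sporadic.RuLattice.ImgCert1
import Cfsg.Agent.Lib.Sporadic.Ru.DataG

/-! Checks for two automorphisms of the lattice given by integer matrices. -/

set_option autoImplicit false
set_option maxRecDepth 100000
set_option Elab.async false

namespace CfsgLib.Sporadic.RuLattice

open Cfsg.Spor CfsgLib.Recognition.RuLattice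

/-- A list of small integers as a single integer. -/
def pack : List ℤ → ℤ
  | [] => 0
  | a :: l => a + 1048576 * pack l

/-- A linear combination of packed vectors. -/
def psum : List ℤ → List ℤ → ℤ
  | p :: P, c :: xs => if c = 0 then psum P xs else c * p + psum P xs
  | _, _ => 0

/-- The matrices, by columns. -/
def autM (m : Fin 4) : List (List ℤ) := autMats.getD m.val []

/-- An entry. -/
def ent (m : Fin 4) (c q : Fin 56) : ℤ := ((autM m).getD c.val []).getD q.val 0

/-- The matrix of the transpose. -/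
def partner : Fin 4 → Fin 4 := ![1, 0, 3, 2]

/-- The packed columns. -/
def autP (m : Fin 4) : List ℤ := autPs.getD m.val []

theorem pack_check : ∀ m : Fin 4,
    autP m = List.ofFn fun c : Fin 56 => pack (List.ofFn (ent m c)) := by
  decide +kernel

theorem ent_bound : ∀ m : Fin 4, ∀ c q : Fin 56, (ent m c q).natAbs ≤ 32 := by decide +kernel

theorem spanVec_bound : ∀ k : Fin 96, ∀ q : Fin 56, (spanVec k q).natAbs ≤ 32 := by decide +kernel

theorem uV_bound : ∀ j : Fin 28, ∀ q : Fin 56, (uV j q).natAbs ≤ 32 := by decide +kernel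

theorem ent_transpose : ∀ m : Fin 4, ∀ c q : Fin 56, ent m c q = ent (partner m) q c := by
  decide +kernel

theorem mat_square : ∀ m : Fin 4, ∀ c : Fin 56,
    psum (autP (partner m)) (List.ofFn (ent m c)) =
      pack (List.ofFn fun q : Fin 56 => if q = c then (16 : ℤ) else 0) := by
  decide +kernel

theorem mat_commute : ∀ m : Fin 4, ∀ c : Fin 56,
    psum (autP m) (List.ofFn (act 0 (fun q => if q = c then 1 else 0))) =
      pack (List.ofFn (act 0 (ent m c))) := by
  decide +kernel

theorem img_apply : ∀ m : Fin 4, ∀ k : Fin 96,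
    psum (autP m) (List.ofFn (spanVec k)) = pack (List.ofFn fun q => 4 * imgV m k q) := by
  decide +kernel

theorem img_cert (m : Fin 4) (k : Fin 96) :
    cert ((autCoef.getD m.val []).getD k.val 0) (imgV m k) = true := by
  obtain ⟨k, hk⟩ := k
  obtain ⟨m, hm⟩ := m
  rcases (show k < 32 ∨ (32 ≤ k ∧ k < 64) ∨ 64 ≤ k by omega) with h | h | h
  · interval_cases m
    · exact of_allFrom_zero imgCert0_0 h
    · exact of_allFrom_zero imgCert1_0 h
    · exact of_allFrom_zero imgCert2_0 h
    · exact of_allFrom_zero imgCert3_0 h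
  · interval_cases m
    · exact allFrom_eq_true.1 imgCert0_1 k h.1 (by omega)
    · exact allFrom_eq_true.1 imgCert1_1 k h.1 (by omega)
    · exact allFrom_eq_true.1 imgCert2_1 k h.1 (by omega)
    · exact allFrom_eq_true.1 imgCert3_1 k h.1 (by omega)
  · interval_cases m
    · exact allFrom_eq_true.1 imgCert0_2 k h (by omega)
    · exact allFrom_eq_true.1 imgCert1_2 k h (by omega)
    · exact allFrom_eq_true.1 imgCert2_2 k h (by omega)
    · exact allFrom_eq_true.1 imgCert3_2 k h (by omega)

/-- The image of a lifted basis vector. -/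
def liftImgV (a : Fin 2) (j : Fin 28) : Fin 56 → ℤ := ofL ((liftImgs.getD a.val []).getD j.val [])

theorem lift_apply : ∀ a : Fin 2, ∀ j : Fin 28,
    psum (autP ⟨2 * a.val, by omega⟩) (List.ofFn (uV j)) =
      pack (List.ofFn fun q => 4 * liftImgV a j q) := by
  decide +kernel

theorem act_bound : ∀ m : Fin 4, ∀ c q : Fin 56, (act 0 (ent m c) q).natAbs ≤ 65536 ∧
    (act 0 (fun r => if r = c then 1 else 0) q).natAbs ≤ 32 := by
  decide +kernel

theorem img_bound : ∀ m : Fin 4, ∀ k : Fin 96, ∀ q : Fin 56, (4 * imgV m k q).natAbs ≤ 65536 := by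
  decide +kernel

theorem liftImg_bound : ∀ a : Fin 2, ∀ j : Fin 28, ∀ q : Fin 56,
    (4 * liftImgV a j q).natAbs ≤ 65536 := by
  decide +kernel

theorem code_check : ∀ a : Fin 2, ∀ i j : Fin 28,
    dotL (liftImgV a j) (piV i) / 4 % 2 =
      ((CfsgLib.Sporadic.Ru.g0Gens.getD a.val 0).testBit (i.val * 28 + j.val)).toNat := by
  decide +kernel

end CfsgLib.Sporadic.RuLattice
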