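import Cfsg.Agent.Lib.Sporadic.RuLattice.Reduce
import Cfsg.Agent.Lib.Sporadic.RuLattice.AutoChecks

/-! Two automorphisms of the lattice, given by integer matrices. -/

set_option autoImplicit false
set_option maxRecDepth 100000

namespace CfsgLib.Sporadic.RuLattice

open Cfsg.Spor CfsgLib.Recognition.RuLattice

theorem pack_ofFn : ∀ {n : ℕ} (f : Fin n → ℤ),
    pack (List.ofFn f) = ∑ q, f q * 1048576 ^ q.val
  | 0, f => by simp [pack]
  | n + 1, f => by
    rw [List.ofFn_succ, pack, pack_ofFn, Fin.sum_univ_succ, Finset.mul_sum]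
    simp only [Fin.val_zero, pow_zero, mul_one, Fin.val_succ, pow_succ]
    refine congrArg (f 0 + ·) (Finset.sum_congr rfl fun i _ => ?_)
    ring

theorem psum_ofFn : ∀ {n : ℕ} (P : Fin n → ℤ) (x : Fin n → ℤ),
    psum (List.ofFn P) (List.ofFn x) = ∑ c, x c * P c
  | 0, P, x => by simp [psum]
  | n + 1, P, x => by
    rw [List.ofFn_succ, List.ofFn_succ (f := x), psum, psum_ofFn, Fin.sum_univ_succ]
    split_ifs with h
    · rw [h, zero_mul, zero_add]
    · rfl

theorem pack_injective : ∀ {n : ℕ} {f g : Fin n → ℤ}, (∀ q, (f q).natAbs ≤ 65536) →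
    (∀ q, (g q).natAbs ≤ 65536) → pack (List.ofFn f) = pack (List.ofFn g) → f = g
  | 0, f, g, _, _, _ => funext fun q => q.elim0
  | n + 1, f, g, hf, hg, h => by
    rw [List.ofFn_succ, List.ofFn_succ (f := g), pack, pack] at h
    have h0 : f 0 = g 0 := by
      have := hf 0
      have := hg 0
      omega
    have hr := pack_injective (f := fun i => f i.succ) (g := fun i => g i.succ)
      (fun q => hf _) (fun q => hg _) (by omega)
    funext q
    induction q using Fin.cases with
    | zero => exact h0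
    | succ i => exact congrFun hr i

/-- Four times an automorphism. -/
def Am (m : Fin 4) : (Fin 56 → ℤ) →+ (Fin 56 → ℤ) :=
  AddMonoidHom.mk' (fun x q => ∑ c, x c * ent m c q) fun a b => funext fun q => by
    simp [add_mul, Finset.sum_add_distrib]

theorem Am_of_psum {m : Fin 4} {x y : Fin 56 → ℤ}
    (h : psum (autP m) (List.ofFn x) = pack (List.ofFn y))
    (hx : ∀ q, (x q).natAbs ≤ 32) (hy : ∀ q, (y q).natAbs ≤ 65536) : Am m x = y := by
  refine pack_injective (fun q => ?_) hy ?_
  · show (∑ c, x c * ent m c q).natAbs ≤ 65536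
    refine (Int.natAbs_sum_le _ _).trans ((Finset.sum_le_sum (g := fun _ => 32 * 32) fun c _ => ?_).trans ?_)
    · rw [Int.natAbs_mul]
      exact Nat.mul_le_mul (hx c) (ent_bound m c q)
    · simp
  · rw [← h, pack_check m, psum_ofFn, pack_ofFn]
    simp only [pack_ofFn, Finset.mul_sum]
    rw [Finset.sum_comm]
    refine Finset.sum_congr rfl fun q _ => ?_
    show (∑ c, x c * ent m c q) * _ = _
    rw [Finset.sum_mul]
    exact Finset.sum_congr rfl fun c _ => by ring

theorem single_eq (i : Fin 56) : (fun q => if q = i then (1 : ℤ) else 0) = Pi.single i 1 :=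
  funext fun q => (Pi.single_apply i (1 : ℤ) q).symm

theorem hom_eq_of_units {f g : (Fin 56 → ℤ) →+ (Fin 56 → ℤ)}
    (h : ∀ i, f (Pi.single i 1) = g (Pi.single i 1)) : f = g :=
  AddMonoidHom.functions_ext (Fin 56 → ℤ) f g fun i z => by
    rw [show (Pi.single i z : Fin 56 → ℤ) = z • Pi.single i 1 by
      funext q; by_cases hq : q = i <;> simp [hq], map_zsmul, map_zsmul, h i]

theorem Am_single (m : Fin 4) (i : Fin 56) : Am m (Pi.single i 1) = ent m i := by
  funext q
  show ∑ c, (Pi.single i (1 : ℤ) : Fin 56 → ℤ) c * ent m c q = _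
  rw [Finset.sum_eq_single i]
  · simp
  · intro b _ hb; simp [hb]
  · simp

theorem Am_inverse (m : Fin 4) (x : Fin 56 → ℤ) : Am (partner m) (Am m x) = (16 : ℤ) • x := by
  have h : (Am (partner m)).comp (Am m) = (16 : ℤ) • AddMonoidHom.id _ :=
    hom_eq_of_units fun i => by
      rw [AddMonoidHom.comp_apply, Am_single, Am_of_psum (mat_square m i) (ent_bound m i) (fun q => by split_ifs <;> norm_num)]
      funext q
      simp only [AddMonoidHom.smul_apply, AddMonoidHom.id_apply, Pi.smul_apply, Pi.single_apply,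
        smul_eq_mul]
      split_ifs <;> simp
  exact DFunLike.congr_fun h x

/-- Multiplication by i. -/
def actHom : (Fin 56 → ℤ) →+ (Fin 56 → ℤ) := AddMonoidHom.mk' (act 0) (act_add 0)

theorem Am_act (m : Fin 4) (x : Fin 56 → ℤ) : Am m (act 0 x) = act 0 (Am m x) := by
  have h : (Am m).comp actHom = actHom.comp (Am m) := hom_eq_of_units fun i => by
    rw [AddMonoidHom.comp_apply, AddMonoidHom.comp_apply, Am_single]
    have := Am_of_psum (mat_commute m i) (fun q => (act_bound m i q).2) (fun q => (act_bound m i q).1)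
    rw [single_eq] at this
    exact this
  exact DFunLike.congr_fun h x

theorem dot_Am (m : Fin 4) (x y : Fin 56 → ℤ) : dot (Am m x) y = dot x (Am (partner m) y) := by
  show ∑ q, (∑ c, x c * ent m c q) * y q = ∑ c, x c * ∑ q, y q * ent (partner m) q c
  simp only [Finset.sum_mul, Finset.mul_sum]
  rw [Finset.sum_comm]
  refine Finset.sum_congr rfl fun c _ => Finset.sum_congr rfl fun q _ => ?_
  rw [ent_transpose m c q]
  ring

theorem Am_div (m : Fin 4) {x : Fin 56 → ℤ} (hx : x ∈ span) :
    ∃ y ∈ span, Am m x = (4 : ℤ) • y := by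
  induction hx using AddSubgroup.closure_induction with
  | mem u hu =>
    obtain ⟨k, rfl⟩ := exists_spanVec hu
    refine ⟨_, mem_span_of_cert (img_cert m k), ?_⟩
    rw [Am_of_psum (img_apply m k) (spanVec_bound k) (img_bound m k)]
    rfl
  | zero => exact ⟨0, zero_mem _, by simp⟩
  | add a b _ _ iha ihb =>
    obtain ⟨y, hy, ey⟩ := iha
    obtain ⟨z, hz, ez⟩ := ihb
    exact ⟨y + z, add_mem hy hz, by rw [map_add, ey, ez, smul_add]⟩
  | neg a _ iha =>
    obtain ⟨y, hy, ey⟩ := iha
    exact ⟨-y, neg_mem hy, by rw [map_neg, ey, smul_neg]⟩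

/-- The automorphism on lattice vectors. -/
noncomputable def autF (m : Fin 4) (v : ruLattice) : ruLattice :=
  lvec (Am_div m (flat_mem v.2)).choose (Am_div m (flat_mem v.2)).choose_spec.1

theorem autF_spec (m : Fin 4) (v : ruLattice) :
    Am m (flat (v : RuVec)) = (4 : ℤ) • flat (autF m v : RuVec) := by
  rw [autF, flat_lvec]
  exact (Am_div m (flat_mem v.2)).choose_spec.2

theorem four_cancel {a b : Fin 56 → ℤ} (h : (4 : ℤ) • a = (4 : ℤ) • b) : a = b :=
  smul_right_injective _ (by norm_num : (4 : ℤ) ≠ 0) h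

theorem autF_inverse {m m' : Fin 4} (h : partner m = m') (v : ruLattice) : autF m' (autF m v) = v := by
  subst h
  refine lat_ext (four_cancel (four_cancel ?_))
  rw [← autF_spec, ← map_zsmul, ← autF_spec, Am_inverse, smul_smul]
  norm_num

theorem flat_add' (a b : ruLattice) :
    flat ((a + b : ruLattice) : RuVec) = flat (a : RuVec) + flat (b : RuVec) := flat_add _ _

theorem partner_partner : ∀ m : Fin 4, partner (partner m) = m := by decide +kernel

/-- The automorphism as a permutation. -/
noncomputable def autPerm (m : Fin 4) : Equiv.Perm ruLattice where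
  toFun := autF m
  invFun := autF (partner m)
  left_inv := autF_inverse rfl
  right_inv := autF_inverse (partner_partner m)

theorem autPerm_mem (m : Fin 4) : autPerm m ∈ fourRu := by
  refine ⟨fun v w => lat_ext (four_cancel ?_), fun v => lat_ext (four_cancel ?_), fun v => ?_⟩
  · show (4 : ℤ) • flat (autF m (v + w) : RuVec) = (4 : ℤ) • flat ((autF m v + autF m w : ruLattice) : RuVec)
    rw [← autF_spec, flat_add', flat_add', map_add, autF_spec, autF_spec, smul_add]
  · show (4 : ℤ) • flat (autF m (ruI v) : RuVec) = (4 : ℤ) • flat (ruI (autF m v) : RuVec)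
    rw [← autF_spec, flat_ruI, flat_ruI, Am_act, autF_spec]
    exact map_zsmul actHom 4 _
  · show ruNorm (autF m v : RuVec) = ruNorm (v : RuVec)
    rw [← sum_sq_flat, ← sum_sq_flat]
    change dot (flat _) (flat _) = dot (flat _) (flat _)
    have h := dot_Am m (flat (v : RuVec)) (Am m (flat (v : RuVec)))
    rw [Am_inverse, autF_spec] at h
    have e1 : ∀ (a : ℤ) (x y : Fin 56 → ℤ), dot (a • x) y = a * dot x y := fun a x y => by
      simp [dot, Finset.mul_sum, mul_assoc]
    rw [e1, dot_comm _ ((4 : ℤ) • _), e1, dot_comm _ ((16 : ℤ) • _), e1] at h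
    omega

/-- The two lifted automorphisms. -/
noncomputable def liftAut (a : Fin 2) : fourRu := ⟨autPerm ⟨2 * a.val, by omega⟩, autPerm_mem _⟩

theorem piMap_liftAut (a : Fin 2) (i j : Fin 28) :
    piMap ((liftAut a).1 (uvec j)) i =
      (((CfsgLib.Sporadic.Ru.g0Gens.getD a.val 0).testBit (i.val * 28 + j.val)).toNat : ZMod 2) := by
  show pz (flat (autF _ (uvec j) : RuVec)) i = _
  have h : flat (autF (⟨2 * a.val, by omega⟩ : Fin 4) (uvec j) : RuVec) = liftImgV a j := by
    refine four_cancel ?_
    rw [← autF_spec, uvec, flat_lvec, Am_of_psum (lift_apply a j) (uV_bound j) (liftImg_bound a j)]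
    rfl
  rw [h, pz, dot_eq_list, ← Int.cast_natCast (R := ZMod 2)]
  refine (ZMod.intCast_eq_intCast_iff' _ _ 2).2 ?_
  have := code_check a i j
  rw [dotL] at this
  rw [Nat.cast_ofNat, this]
  cases (CfsgLib.Sporadic.Ru.g0Gens.getD a.val 0).testBit (i.val * 28 + j.val) <;> rfl

end CfsgLib.Sporadic.RuLattice
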