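import Cfsg.Agent.Lib.Sporadic.RuLattice.Profile

/-! Orbit bounds along the base. -/

set_option autoImplicit false
set_option maxRecDepth 100000
set_option Elab.async false

namespace CfsgLib.Sporadic.RuLattice

theorem count0 : Nat.ble (countL (preTest (baseTests.getD 0 [])) keyT) 16240 = true := by decide +kernel

theorem count1 : Nat.ble (countL (preTest (baseTests.getD 1 [])) keyT) 2304 = true := by decide +kernel

theorem count2 : Nat.ble (countL (preTest (baseTests.getD 2 [])) keyT) 78 = true := by decide +kernel

theorem count3 : Nat.ble (countL (preTest (baseTests.getD 3 [])) keyT) 2 = true := by decide +kernel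

theorem count4 : Nat.ble (countL (preTest (baseTests.getD 4 [])) keyT) 25 = true := by decide +kernel

theorem count5 : Nat.ble (countL (preTest (baseTests.getD 5 [])) keyT) 4 = true := by decide +kernel

end CfsgLib.Sporadic.RuLattice
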