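import Cfsg.Agent.Lib.Sporadic.RuLattice.Profile

/-! The profiles of the spanning vectors are unique. -/

set_option autoImplicit false
set_option maxRecDepth 100000
set_option Elab.async false

namespace CfsgLib.Sporadic.RuLattice

theorem unique0 : Nat.ble (countL (preTest (selTests.getD 0 [])) keyT) 1 = true := by decide +kernel

theorem unique1 : Nat.ble (countL (preTest (selTests.getD 1 [])) keyT) 1 = true := by decide +kernel

theorem unique2 : Nat.ble (countL (preTest (selTests.getD 2 [])) keyT) 1 = true := by decide +kernel

theorem unique3 : Nat.ble (countL (preTest (selTests.getD 3 [])) keyT) 1 = true := by decide +kernel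

theorem unique4 : Nat.ble (countL (preTest (selTests.getD 4 [])) keyT) 1 = true := by decide +kernel

theorem unique5 : Nat.ble (countL (preTest (selTests.getD 5 [])) keyT) 1 = true := by decide +kernel

theorem unique6 : Nat.ble (countL (preTest (selTests.getD 6 [])) keyT) 1 = true := by decide +kernel

theorem unique7 : Nat.ble (countL (preTest (selTests.getD 7 [])) keyT) 1 = true := by decide +kernel

theorem unique8 : Nat.ble (countL (preTest (selTests.getD 8 [])) keyT) 1 = true := by decide +kernel

theorem unique9 : Nat.ble (countL (preTest (selTests.getD 9 [])) keyT) 1 = true := by decide +kernel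

theorem unique10 : Nat.ble (countL (preTest (selTests.getD 10 [])) keyT) 1 = true := by decide +kernel

theorem unique11 : Nat.ble (countL (preTest (selTests.getD 11 [])) keyT) 1 = true := by decide +kernel

theorem unique12 : Nat.ble (countL (preTest (selTests.getD 12 [])) keyT) 1 = true := by decide +kernel

theorem unique13 : Nat.ble (countL (preTest (selTests.getD 13 [])) keyT) 1 = true := by decide +kernel

end CfsgLib.Sporadic.RuLattice
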