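import Cfsg.Agent.Lib.Sporadic.RuLattice.Profile

/-! The profiles of the spanning vectors are unique. -/

set_option autoImplicit false
set_option maxRecDepth 100000
set_option Elab.async false

namespace CfsgLib.Sporadic.RuLattice

theorem unique14 : Nat.ble (countL (preTest (selTests.getD 14 [])) keyT) 1 = true := by decide +kernel

theorem unique15 : Nat.ble (countL (preTest (selTests.getD 15 [])) keyT) 1 = true := by decide +kernel

theorem unique16 : Nat.ble (countL (preTest (selTests.getD 16 [])) keyT) 1 = true := by decide +kernel

theorem unique17 : Nat.ble (countL (preTest (selTests.getD 17 [])) keyT) 1 = true := by decide +kernel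

theorem unique18 : Nat.ble (countL (preTest (selTests.getD 18 [])) keyT) 1 = true := by decide +kernel

theorem unique19 : Nat.ble (countL (preTest (selTests.getD 19 [])) keyT) 1 = true := by decide +kernel

theorem unique20 : Nat.ble (countL (preTest (selTests.getD 20 [])) keyT) 1 = true := by decide +kernel

theorem unique21 : Nat.ble (countL (preTest (selTests.getD 21 [])) keyT) 1 = true := by decide +kernel

theorem unique22 : Nat.ble (countL (preTest (selTests.getD 22 [])) keyT) 1 = true := by decide +kernel

theorem unique23 : Nat.ble (countL (preTest (selTests.getD 23 [])) keyT) 1 = true := by decide +kernel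

theorem unique24 : Nat.ble (countL (preTest (selTests.getD 24 [])) keyT) 1 = true := by decide +kernel

theorem unique25 : Nat.ble (countL (preTest (selTests.getD 25 [])) keyT) 1 = true := by decide +kernel

theorem unique26 : Nat.ble (countL (preTest (selTests.getD 26 [])) keyT) 1 = true := by decide +kernel

theorem unique27 : Nat.ble (countL (preTest (selTests.getD 27 [])) keyT) 1 = true := by decide +kernel

end CfsgLib.Sporadic.RuLattice
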