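import Cfsg.Agent.Lib.Sporadic.RuLattice.Profile
import Cfsg.Agent.Lib.Sporadic.RuLattice.BoundCount
import Cfsg.Agent.Lib.Sporadic.RuLattice.BoundUnique0
import Cfsg.Agent.Lib.Sporadic.RuLattice.BoundUnique1

/-! Checks for the stabiliser bound. -/

set_option autoImplicit false
set_option maxRecDepth 100000
set_option Elab.async false

namespace CfsgLib.Sporadic.RuLattice

open CfsgLib.Recognition.RuLattice

theorem sel_cert : ∀ k : Fin 28,
    cert (selCoef.getD k.val 0) (minV (selIdx.getD k.val 0)) = true ∧
      selIdx.getD k.val 0 < 16240 := by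
  decide +kernel

theorem base_tests : ∀ j : Fin 6, baseIdx.getD j.val 0 = selIdx.getD j.val 0 ∧
    baseTests.getD j.val [] =
      (forms.take (2 * j.val)).map fun f => (f, formVal (keyT.get (selIdx.getD j.val 0)) f) := by
  decide +kernel

theorem sel_tests : ∀ k : Fin 28, selTests.getD k.val [] =
    forms.map fun f => (f, formVal (keyT.get (selIdx.getD k.val 0)) f) := by
  decide +kernel

theorem sel_norm : ∀ k : Fin 28,
    ((List.finRange 56).map fun i =>
      minV (selIdx.getD k.val 0) i * minV (selIdx.getD k.val 0) i).sum = 16 := by
  decide +kernel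

theorem forms_lt : (forms.all fun f => f.1.all (fun p => Nat.blt p 56) &&
    f.2.all (fun p => Nat.blt p 56) && Nat.blt (15 * f.2.length) 1025) = true := by
  decide +kernel

theorem forms_base : ∀ j : Fin 12, ∀ q : Fin 56,
    ((forms.getD j.val ([], [])).1.count q.val : ℤ) - ((forms.getD j.val ([], [])).2.count q.val) =
      (if j.val % 2 = 0 then minV (baseIdx.getD (j.val / 2) 0) q
        else act 0 (minV (baseIdx.getD (j.val / 2) 0)) q) := by
  decide +kernel

theorem span_check : ∀ p : Fin 28, ∀ q : Fin 56,
    ((List.finRange 28).map fun k =>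
      ((spanCert.getD p.val (0, [])).2.getD (2 * k.val) 0) * minV (selIdx.getD k.val 0) q +
      ((spanCert.getD p.val (0, [])).2.getD (2 * k.val + 1) 0) *
        act 0 (minV (selIdx.getD k.val 0)) q).sum =
      (if q.val = 2 * p.val then 4 * (spanCert.getD p.val (0, [])).1 else 0) := by
  decide +kernel

theorem span_pos : ∀ p : Fin 28, (spanCert.getD p.val (0, [])).1 ≠ 0 := by decide +kernel

theorem act_four : ∀ p : Fin 28, ∀ q : Fin 56,
    act 0 (Pi.single (⟨2 * p.val, by omega⟩ : Fin 56) 4) q = if q.val = 2 * p.val + 1 then 4 else 0 := by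
  decide +kernel

theorem sel_unique (k : Fin 28) :
    Nat.ble (countL (preTest (selTests.getD k.val [])) keyT) 1 = true := by
  obtain ⟨n, hn⟩ := k
  show Nat.ble (countL (preTest (selTests.getD n [])) keyT) 1 = true
  interval_cases n
  · exact unique0
  · exact unique1
  · exact unique2
  · exact unique3
  · exact unique4
  · exact unique5
  · exact unique6
  · exact unique7
  · exact unique8
  · exact unique9
  · exact unique10
  · exact unique11
  · exact unique12
  · exact unique13
  · exact unique14
  · exact unique15
  · exact unique16
  · exact unique17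
  · exact unique18
  · exact unique19
  · exact unique20
  · exact unique21
  · exact unique22
  · exact unique23
  · exact unique24
  · exact unique25
  · exact unique26
  · exact unique27

end CfsgLib.Sporadic.RuLattice
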