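import Cfsg.Agent.Lib.Sporadic.RuLattice.Census
import Cfsg.Agent.Lib.Sporadic.RuLattice.BoundChecks

/-! The automorphism group of the lattice has order at most 583704576000: a stabiliser chain
through the vectors of norm sixteen. -/

set_option autoImplicit false
set_option maxRecDepth 100000

namespace CfsgLib.Sporadic.RuLattice

open Cfsg.Spor CfsgLib.Recognition.RuLattice

/-- An automorphism, as an additive map. -/
def addHom (f : fourRu) : ruLattice →+ ruLattice := AddMonoidHom.mk' f.1 f.2.1

theorem smul_eq (f : fourRu) (v : ruLattice) : f • v = f.1 v := rfl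

/-- The coordinates of lattice vectors, as an additive map. -/
def fl : ruLattice →+ (Fin 56 → ℤ) := flatHom.comp ruLattice.subtype

theorem fl_apply (v : ruLattice) : fl v = flat (v : RuVec) := rfl

theorem fl_injective : Function.Injective fl := fun _ _ h => lat_ext h

theorem fl_mem (v : ruLattice) : fl v ∈ span := flat_mem v.2

theorem fl_ruI (v : ruLattice) : fl (ruI v) = act 0 (fl v) := flat_ruI v

theorem fl_smul_ruI (f : fourRu) (v : ruLattice) : fl (f • ruI v) = act 0 (fl (f • v)) := by
  rw [smul_eq, smul_eq, f.2.2.1, fl_ruI]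

theorem dot_self_smul (f : fourRu) (v : ruLattice) : dot (fl (f • v)) (fl (f • v)) = dot (fl v) (fl v) := by
  change ∑ k, flat _ k * flat _ k = ∑ k, flat _ k * flat _ k
  rw [sum_sq_flat, sum_sq_flat]
  exact f.2.2.2 v

theorem dot_smul (f : fourRu) (v w : ruLattice) :
    dot (fl (f • v)) (fl (f • w)) = dot (fl v) (fl w) := by
  have h := dot_self_smul f (v + w)
  have hv := dot_self_smul f v
  have hw := dot_self_smul f w
  rw [smul_eq, f.2.1, map_add, map_add] at h
  simp only [smul_eq] at hv hw ⊢
  rw [dot_add, dot_comm _ (fl (f.1 v) + fl (f.1 w)), dot_comm (fl (f.1 w)), dot_add, dot_add,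
    dot_comm (fl (f.1 w)) (fl (f.1 v)), dot_add, dot_comm _ (fl v + fl w), dot_comm (fl w), dot_add,
    dot_add, dot_comm (fl w) (fl v)] at h
  linarith

theorem sel_mem (k : Fin 28) : minV (selIdx.getD k.val 0) ∈ span :=
  mem_span_of_cert (sel_cert k).1

/-- The vectors that span after tensoring with the rationals. -/
noncomputable def sv (k : Fin 28) : ruLattice := lvec (minV (selIdx.getD k.val 0)) (sel_mem k)

theorem fl_sv (k : Fin 28) : fl (sv k) = minV (selIdx.getD k.val 0) := flat_lvec _ (sel_mem k)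

/-- The elements fixing the first `j` base vectors. -/
noncomputable def fixFirst (j : ℕ) : Subgroup fourRu :=
  ⨅ k : Fin 28, ⨅ _ : k.val < j, MulAction.stabilizer fourRu (sv k)

theorem mem_fixFirst {j : ℕ} {g : fourRu} :
    g ∈ fixFirst j ↔ ∀ k : Fin 28, k.val < j → g • sv k = sv k := by
  simp [fixFirst, Subgroup.mem_iInf]

theorem digSum_eq (c : ℕ) : ∀ L : List ℕ, (∀ p ∈ L, p < 56) →
    (digSum c L : ℤ) = ∑ q : Fin 56, (L.count q.val : ℤ) * (decV c q + 8) ∧
      digSum c L ≤ 15 * L.length
  | [], _ => ⟨by simp [digSum], le_refl _⟩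
  | p :: L, h => by
    obtain ⟨e, hle⟩ := digSum_eq c L fun q hq => h q (List.mem_cons_of_mem _ hq)
    have hp := h p List.mem_cons_self
    have hd : digSum c (p :: L) = c >>> (4 * p) % 16 + digSum c L := rfl
    constructor
    · rw [hd, Nat.cast_add, e]
      have h1 : ∀ q : Fin 56, ((p :: L).count q.val : ℤ) =
          (L.count q.val : ℤ) + if q = ⟨p, hp⟩ then 1 else 0 := by
        intro q
        rw [List.count_cons]
        by_cases hq : q = ⟨p, hp⟩
        · subst hq; simp
        · rw [if_neg hq, if_neg]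
          · simp
          · simp only [beq_iff_eq]
            exact fun e => hq (Fin.ext e.symm)
      simp only [h1, add_mul, Finset.sum_add_distrib, ite_mul, one_mul, zero_mul,
        Finset.sum_ite_eq', Finset.mem_univ, if_true]
      rw [decV]
      ring
    · rw [hd, List.length_cons]
      have := Nat.mod_lt (c >>> (4 * p)) (show 0 < 16 by norm_num)
      omega

theorem forms_length : forms.length = 12 := by decide +kernel

theorem formVal_congr {c c' : ℕ} {m : ℕ} (hm : m < 12) {B : Fin 56 → ℤ}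
    (hB : ∀ q : Fin 56, ((forms.getD m ([], [])).1.count q.val : ℤ) -
      ((forms.getD m ([], [])).2.count q.val) = B q)
    (h : dot (decV c) B = dot (decV c') B) :
    formVal c (forms.getD m ([], [])) = formVal c' (forms.getD m ([], [])) := by
  have hmem : forms.getD m ([], []) ∈ forms := by
    rw [List.getD_eq_getElem _ _ (forms_length ▸ hm)]
    exact List.getElem_mem _
  have hlt := forms_lt
  simp only [List.all_eq_true, Bool.and_eq_true, Nat.blt_eq] at hlt
  obtain ⟨⟨h1, h2⟩, h3⟩ := hlt _ hmem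
  have val : ∀ a : ℕ, (formVal a (forms.getD m ([], [])) : ℤ) =
      1024 + dot (decV a) B + 8 * ∑ q, B q := by
    intro a
    obtain ⟨e1, -⟩ := digSum_eq a _ h1
    obtain ⟨e2, l2⟩ := digSum_eq a _ h2
    show (((digSum a (forms.getD m ([], [])).1 + 1024 - digSum a (forms.getD m ([], [])).2 : ℕ)) : ℤ) = _
    rw [Nat.cast_sub (by omega), Nat.cast_add, e1, e2, dot, Finset.mul_sum]
    simp only [← hB, Nat.cast_ofNat]
    rw [add_comm (∑ q : Fin 56, _) (1024 : ℤ), add_sub_assoc, add_assoc,
      ← Finset.sum_sub_distrib, ← Finset.sum_add_distrib]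
    exact congrArg ((1024 : ℤ) + ·) (Finset.sum_congr rfl fun q _ => by ring)
  have := val c
  rw [h, ← val c'] at this
  exact Nat.cast_injective this

/-- The image of a spanning vector takes its values at the forms of the fixed base vectors. -/
theorem exists_key {j : ℕ} (hj : j ≤ 6) {g : fourRu} (hg : g ∈ fixFirst j) (k : Fin 28) :
    ∃ c ∈ leaves keyT, decV c = fl (g • sv k) ∧ preTest ((forms.take (2 * j)).map fun f =>
      (f, formVal (keyT.get (selIdx.getD k.val 0)) f)) c = true := by
  have h16 : dot (fl (g • sv k)) (fl (g • sv k)) = 16 := by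
    rw [dot_self_smul, fl_sv, dot_eq_list]
    exact sel_norm k
  obtain ⟨i, hi, -, hmin⟩ := min_mem (fl_mem (g • sv k)) h16
  refine ⟨keyT.get i, get_mem_leaves _ _, hmin, preTest_eq_true fun ft hft => ?_⟩
  obtain ⟨f, hf, rfl⟩ := List.mem_map.1 hft
  obtain ⟨m, hm, rfl⟩ := List.getElem_of_mem hf
  rw [List.length_take, forms_length] at hm
  simp only [List.getElem_take]
  rw [← List.getD_eq_getElem (d := ([], []))]
  refine formVal_congr (by omega) (forms_base ⟨m, by omega⟩) ?_
  have hb : baseIdx.getD (m / 2) 0 = selIdx.getD (m / 2) 0 := (base_tests ⟨m / 2, by omega⟩).1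
  set b : Fin 28 := ⟨m / 2, by omega⟩
  have hfix : g • sv b = sv b := mem_fixFirst.1 hg b (show m / 2 < j by omega)
  change dot (minV i) _ = dot (minV (selIdx.getD k.val 0)) _
  simp only [hb]
  rw [hmin, ← fl_sv k, show minV (selIdx.getD (m / 2) 0) = fl (sv b) from (fl_sv b).symm]
  split_ifs with h
  · conv_lhs => rw [← hfix]
    exact dot_smul g _ _
  · rw [← fl_ruI, ← dot_smul g (sv k) (ruI (sv b))]
    rw [fl_smul_ruI, hfix, fl_ruI]

theorem forms_take : forms.take (2 * 6) = forms := by decide +kernel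

theorem eq_of_countL {p : ℕ → Bool} {T : Tr} (h : Nat.ble (countL p T) 1 = true) {a b : ℕ}
    (ha : a ∈ leaves T) (ha' : p a = true) (hb : b ∈ leaves T) (hb' : p b = true) : a = b := by
  have hl := Nat.le_of_ble_eq_true h
  rw [countL_eq] at hl
  have ma : a ∈ (leaves T).filter p := List.mem_filter.2 ⟨ha, ha'⟩
  have mb : b ∈ (leaves T).filter p := List.mem_filter.2 ⟨hb, hb'⟩
  revert ma mb hl
  generalize (leaves T).filter p = l
  intro hl ma mb
  match l, hl, ma, mb with
  | [x], _, ma, mb => rw [List.mem_singleton.1 ma, List.mem_singleton.1 mb]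

theorem fix_sv {g : fourRu} (hg : g ∈ fixFirst 6) (k : Fin 28) : g • sv k = sv k := by
  obtain ⟨c, hc, hdec, hpre⟩ := exists_key le_rfl hg k
  rw [forms_take, ← sel_tests k] at hpre
  have hself : preTest (selTests.getD k.val []) (keyT.get (selIdx.getD k.val 0)) = true := by
    rw [sel_tests k]
    refine preTest_eq_true fun ft hft => ?_
    obtain ⟨f, -, rfl⟩ := List.mem_map.1 hft
    rfl
  have e := eq_of_countL (sel_unique k) hc hpre (get_mem_leaves _ _) hself
  refine fl_injective ?_
  rw [← hdec, e, fl_sv]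
  rfl

theorem fix_four {g : fourRu} (hg : g ∈ fixFirst 6) (q : Fin 56) :
    g • lvec (Pi.single q 4) (four_span q) = lvec (Pi.single q 4) (four_span q) := by
  have hI : ∀ v, g • v = v → g • ruI v = ruI v := fun v hv => by
    rw [smul_eq, g.2.2.1, ← smul_eq, hv]
  have heven : ∀ p : Fin 28, g • lvec (Pi.single (⟨2 * p.val, by omega⟩ : Fin 56) 4) (four_span _) =
      lvec (Pi.single (⟨2 * p.val, by omega⟩ : Fin 56) 4) (four_span _) := by
    intro p
    set E := lvec (Pi.single (⟨2 * p.val, by omega⟩ : Fin 56) 4) (four_span _) with hE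
    set cs := (spanCert.getD p.val (0, [])).2
    set N := (spanCert.getD p.val (0, [])).1
    have e : N • E = ((List.finRange 28).map fun k =>
        (cs.getD (2 * k.val) 0) • sv k + (cs.getD (2 * k.val + 1) 0) • ruI (sv k)).sum := by
      refine fl_injective (funext fun r => ?_)
      rw [map_zsmul, map_list_sum, List.map_map, Pi.smul_apply, hE, fl_apply, flat_lvec,
        Pi.single_apply, smul_eq_mul]
      have hs : ∀ l : List (Fin 28), ((l.map (fl ∘ fun k =>
          (cs.getD (2 * k.val) 0) • sv k + (cs.getD (2 * k.val + 1) 0) • ruI (sv k))).sum) r =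
          (l.map fun k => (cs.getD (2 * k.val) 0) * minV (selIdx.getD k.val 0) r +
            (cs.getD (2 * k.val + 1) 0) * act 0 (minV (selIdx.getD k.val 0)) r).sum := by
        intro l
        induction l with
        | nil => rfl
        | cons a l ih =>
          rw [List.map_cons, List.sum_cons, List.map_cons, List.sum_cons, Pi.add_apply, ih,
            Function.comp_apply, map_add, map_zsmul, map_zsmul, fl_ruI, fl_sv]
          rfl
      rw [hs, span_check p r]
      by_cases hr : r.val = 2 * p.val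
      · rw [if_pos hr, if_pos (Fin.ext hr)]; ring
      · rw [if_neg hr, if_neg (fun h => hr (congrArg Fin.val h))]; ring
    have h2 : N • (g • E) = N • E := by
      rw [smul_eq, ← show addHom g (N • E) = N • g.1 E from map_zsmul (addHom g) N E, e,
        map_list_sum, List.map_map]
      refine congrArg List.sum (List.map_congr_left fun k _ => ?_)
      rw [Function.comp_apply, map_add, map_zsmul, map_zsmul]
      show _ • g.1 (sv k) + _ • g.1 (ruI (sv k)) = _
      rw [← smul_eq, ← smul_eq, fix_sv hg k, hI _ (fix_sv hg k)]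
    refine fl_injective (funext fun r => ?_)
    have := congrFun (congrArg fl h2) r
    rw [map_zsmul, map_zsmul] at this
    exact mul_left_cancel₀ (span_pos p) this
  rcases Nat.even_or_odd q.val with ⟨p, hp⟩ | ⟨p, hp⟩
  · have := heven ⟨p, by omega⟩
    rwa [show (⟨2 * p, _⟩ : Fin 56) = q from Fin.ext (by simp only; omega)] at this
  · have := hI _ (heven ⟨p, by omega⟩)
    rwa [show ruI (lvec (Pi.single (⟨2 * p, by omega⟩ : Fin 56) 4) (four_span _)) =
      lvec (Pi.single q 4) (four_span q) from fl_injective (funext fun r => ?_)] at this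
    rw [fl_ruI, fl_apply, fl_apply, flat_lvec, flat_lvec, act_four ⟨p, by omega⟩, Pi.single_apply]
    exact if_congr ⟨fun h => Fin.ext (by simp only at h; omega), fun h => by
      subst h; simp only; omega⟩ rfl rfl

theorem fixFirst_six : fixFirst 6 = ⊥ := by
  rw [eq_bot_iff]
  intro g hg
  refine Subtype.ext (Equiv.ext fun v => ?_)
  show g.1 v = v
  have e : (4 : ℤ) • v = ∑ q, fl v q • lvec (Pi.single q 4) (four_span q) := by
    refine fl_injective (funext fun r => ?_)
    rw [map_zsmul, map_sum, Finset.sum_apply, Finset.sum_eq_single r]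
    · rw [map_zsmul, fl_apply (lvec _ _), flat_lvec]
      simp [mul_comm]
    · intro b _ hb
      rw [map_zsmul, fl_apply (lvec _ _), flat_lvec]
      simp [Pi.single_eq_of_ne (Ne.symm hb)]
    · simp
  have h2 : (4 : ℤ) • g.1 v = (4 : ℤ) • v := by
    rw [← show addHom g ((4 : ℤ) • v) = (4 : ℤ) • g.1 v from map_zsmul (addHom g) 4 v, e, map_sum]
    refine Finset.sum_congr rfl fun q _ => ?_
    rw [map_zsmul]
    show _ • g.1 _ = _
    rw [← smul_eq, fix_four hg q]
  refine fl_injective (funext fun r => ?_)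
  have := congrFun (congrArg fl h2) r
  rw [map_zsmul, map_zsmul] at this
  exact mul_left_cancel₀ (by norm_num) this

theorem count_le {p : ℕ → Bool} {T : Tr} {n B : ℕ} (h : Nat.ble (countL p T) n = true) (e : n = B) :
    countL p T ≤ B :=
  (Nat.le_of_ble_eq_true h).trans_eq e

theorem base_count {j : ℕ} (hj : j < 6) :
    countL (preTest (baseTests.getD j [])) keyT ≤ baseSize.getD j 0 := by
  interval_cases j
  · exact count_le count0 rfl
  · exact count_le count1 rfl
  · exact count_le count2 rfl
  · exact count_le count3 rfl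
  · exact count_le count4 rfl
  · exact count_le count5 rfl

theorem orbit_key {j : ℕ} (hj : j < 6) {v : ruLattice}
    (hv : v ∈ MulAction.orbit (fixFirst j) (sv (⟨j, by omega⟩ : Fin 28))) :
    ∃ c ∈ (leaves keyT).filter (preTest (baseTests.getD j [])), decV c = fl v := by
  obtain ⟨g, rfl⟩ := hv
  obtain ⟨c, hc, hdec, hpre⟩ := exists_key hj.le g.2 (⟨j, by omega⟩ : Fin 28)
  refine ⟨c, List.mem_filter.2 ⟨hc, ?_⟩, hdec⟩
  have hb := (base_tests ⟨j, hj⟩).2
  simp only at hb hpre
  rw [hb]
  exact hpre

/-- One level of a stabiliser chain. -/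
theorem level_bound {G X Y : Type*} [Group G] [MulAction G X] {H H' : Subgroup G} (x : X)
    (hH' : ∀ g, g ∈ H' ↔ g ∈ H ∧ g • x = x) (hfin : Finite H') (Q : Finset Y) (d : Y → X → Prop)
    (huniq : ∀ c v w, d c v → d c w → v = w)
    (horb : ∀ v ∈ MulAction.orbit H x, ∃ c ∈ Q, d c v) :
    Finite H ∧ Nat.card H ≤ Q.card * Nat.card H' := by
  have hsub : ∀ v : MulAction.orbit H x, ∃ c : Q, d c.1 v.1 := fun v => by
    obtain ⟨c, hc, hd⟩ := horb v.1 v.2
    exact ⟨⟨c, hc⟩, hd⟩
  choose idx hidx using hsub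
  have hinj : Function.Injective idx := fun v w e =>
    Subtype.ext (huniq _ _ _ (hidx v) (e ▸ hidx w))
  have hfin' : Finite (MulAction.orbit H x) := Finite.of_injective idx hinj
  let φ : MulAction.stabilizer H x ≃ H' :=
    { toFun := fun y => ⟨y.1.1, (hH' _).2 ⟨y.1.2, y.2⟩⟩
      invFun := fun y => ⟨⟨y.1, ((hH' _).1 y.2).1⟩, ((hH' _).1 y.2).2⟩
      left_inv := fun _ => rfl
      right_inv := fun _ => rfl }
  have : Finite (MulAction.stabilizer H x) := Finite.of_equiv _ φ.symm
  let e := MulAction.orbitProdStabilizerEquivGroup H x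
  refine ⟨Finite.of_equiv _ e, ?_⟩
  rw [← Nat.card_congr e, Nat.card_prod, Nat.card_congr φ]
  refine Nat.mul_le_mul_right _ ((Nat.card_le_card_of_injective idx hinj).trans ?_)
  rw [Nat.card_eq_fintype_card, Fintype.card_coe]

theorem mem_fixFirst_succ {j : ℕ} (hj : j < 28) (g : fourRu) :
    g ∈ fixFirst (j + 1) ↔ g ∈ fixFirst j ∧ g • sv ⟨j, hj⟩ = sv ⟨j, hj⟩ := by
  rw [mem_fixFirst, mem_fixFirst]
  refine ⟨fun h => ⟨fun k hk => h k (by omega), h ⟨j, hj⟩ (Nat.lt_succ_self j)⟩, fun h k hk => ?_⟩
  rcases Nat.lt_or_ge k.val j with h' | h'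
  · exact h.1 k h'
  · rw [show k = ⟨j, hj⟩ from Fin.ext (show k.val = j by omega)]
    exact h.2

theorem step {j : ℕ} (hj : j < 6) (h : Finite (fixFirst (j + 1))) :
    Finite (fixFirst j) ∧
      Nat.card (fixFirst j) ≤ baseSize.getD j 0 * Nat.card (fixFirst (j + 1)) := by
  obtain ⟨Q, hmemQ, hcardQ⟩ : ∃ Q : Finset ℕ,
      (∀ c ∈ (leaves keyT).filter (preTest (baseTests.getD j [])), c ∈ Q) ∧
        Q.card ≤ baseSize.getD j 0 :=
    ⟨((leaves keyT).filter (preTest (baseTests.getD j []))).toFinset,
      fun c hc => List.mem_toFinset.2 hc,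
      (List.toFinset_card_le _).trans ((countL_eq _ _).symm.trans_le (base_count hj))⟩
  obtain ⟨hf, hc⟩ := level_bound (sv (⟨j, by omega⟩ : Fin 28)) (mem_fixFirst_succ (by omega)) h Q
    (fun c v => decV c = fl v) (fun c v w hv hw => fl_injective (hv.symm.trans hw))
    (fun v hv => by
      obtain ⟨c, hc, hd⟩ := orbit_key hj hv
      exact ⟨c, hmemQ c hc, hd⟩)
  exact ⟨hf, hc.trans (Nat.mul_le_mul_right _ hcardQ)⟩

theorem finite_and_bound :
    Finite fourRu ∧ Nat.card fourRu ≤ 583704576000 := by
  have h6 : Finite (fixFirst 6) ∧ Nat.card (fixFirst 6) ≤ 1 := by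
    rw [fixFirst_six]
    exact ⟨inferInstance, by simp⟩
  obtain ⟨f5, c5⟩ := step (j := 5) (by norm_num) h6.1
  obtain ⟨f4, c4⟩ := step (j := 4) (by norm_num) f5
  obtain ⟨f3, c3⟩ := step (j := 3) (by norm_num) f4
  obtain ⟨f2, c2⟩ := step (j := 2) (by norm_num) f3
  obtain ⟨f1, c1⟩ := step (j := 1) (by norm_num) f2
  obtain ⟨f0, c0⟩ := step (j := 0) (by norm_num) f1
  have htop : fixFirst 0 = ⊤ := eq_top_iff.2 fun g _ => mem_fixFirst.2 fun k hk => absurd hk (by omega)
  rw [htop] at c0 f0
  refine ⟨Finite.of_equiv _ Subgroup.topEquiv.toEquiv, ?_⟩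
  rw [← Subgroup.card_top]
  simp only [baseSize, List.getD_cons_zero, List.getD_cons_succ] at c0 c1 c2 c3 c4 c5
  have := h6.2
  calc Nat.card (⊤ : Subgroup fourRu) ≤ 16240 * Nat.card (fixFirst 1) := c0
    _ ≤ 16240 * (2304 * (78 * (2 * (25 * (4 * 1))))) := by
      gcongr
      refine c1.trans ?_
      gcongr
      refine c2.trans ?_
      gcongr
      refine c3.trans ?_
      gcongr
      refine c4.trans ?_
      gcongr
      exact c5.trans (Nat.mul_le_mul_left _ h6.2)
    _ = 583704576000 := by norm_num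

end CfsgLib.Sporadic.RuLattice
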