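import Cfsg.Agent.Lib.Sporadic.RuLattice.ScanDefs

/-! Part of the scan of the parity words. -/

set_option autoImplicit false
set_option maxRecDepth 100000
set_option Elab.async false

namespace CfsgLib.Sporadic.RuLattice

open CfsgLib.Recognition.RuLattice

theorem scan8 : allCombo leafT parRest (parShift 8) = true := by decide +kernel

theorem scan9 : allCombo leafT parRest (parShift 9) = true := by decide +kernel

theorem scan10 : allCombo leafT parRest (parShift 10) = true := by decide +kernel

theorem scan11 : allCombo leafT parRest (parShift 11) = true := by decide +kernel

theorem scan12 : allCombo leafT parRest (parShift 12) = true := by decide +kernel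

theorem scan13 : allCombo leafT parRest (parShift 13) = true := by decide +kernel

theorem scan14 : allCombo leafT parRest (parShift 14) = true := by decide +kernel

theorem scan15 : allCombo leafT parRest (parShift 15) = true := by decide +kernel

end CfsgLib.Sporadic.RuLattice
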