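import Cfsg.Agent.Lib.Sporadic.RuLattice.Scan0
import Cfsg.Agent.Lib.Sporadic.RuLattice.Scan1

/-! The parity words of weight at most sixteen are listed. -/

set_option autoImplicit false
set_option maxRecDepth 100000

namespace CfsgLib.Sporadic.RuLattice

open CfsgLib.Recognition.RuLattice

theorem scan (m : ℕ) (hm : m < 16) : allCombo leafT parRest (parShift m) = true := by
  interval_cases m
  · exact scan0
  · exact scan1
  · exact scan2
  · exact scan3
  · exact scan4
  · exact scan5
  · exact scan6
  · exact scan7
  · exact scan8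
  · exact scan9
  · exact scan10
  · exact scan11
  · exact scan12
  · exact scan13
  · exact scan14
  · exact scan15

theorem Combo.split {w : ℕ} : ∀ {p l : List ℕ}, Combo (p ++ l) w →
    ∃ m, m < 2 ^ p.length ∧ ∃ r, Combo l r ∧ w = combo p m ^^^ r
  | [], l, h => ⟨0, by simp, w, h, by simp [combo]⟩
  | g :: p, l, h => by
    cases h with
    | skip h =>
      obtain ⟨m, hm, r, hr, e⟩ := Combo.split h
      refine ⟨2 * m, by rw [List.length_cons, pow_succ]; omega, r, hr, ?_⟩
      rw [combo, if_neg (by omega), Nat.mul_div_cancel_left _ two_pos, e]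
    | @take _ _ v h =>
      obtain ⟨m, hm, r, hr, e⟩ := Combo.split h
      refine ⟨2 * m + 1, by rw [List.length_cons, pow_succ]; omega, r, hr, ?_⟩
      rw [combo, if_pos (by omega), show (2 * m + 1) / 2 = m by omega, e, Nat.xor_right_comm]

theorem scan_cases {w : ℕ} (hw : Combo (parA.map Prod.fst) w) :
    16 < weight w ∨ w = 0 ∨ w ∈ eightT ∨ ∃ i < 1701, parT.get i = w := by
  rw [← List.take_append_drop 4 (parA.map Prod.fst)] at hw
  obtain ⟨m, hm, r, hr, rfl⟩ := Combo.split hw
  have h := allCombo_spec hr (parShift m) (scan m (lt_of_lt_of_le hm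
    (le_of_eq (by rw [List.length_take]; rfl))))
  simp only [leafT, parShift, Bool.or_eq_true, Nat.blt_eq, beq_iff_eq,
    List.contains_iff_mem] at h
  rcases h with ((h | h) | h) | h
  · exact .inl h
  · exact .inr (.inl h)
  · exact .inr (.inr (.inl h))
  · exact .inr (.inr (.inr (exists_of_inT (by norm_num) h)))

end CfsgLib.Sporadic.RuLattice
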