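import Cfsg.Agent.Lib.Sporadic.RuLattice.SignCert0
import Cfsg.Agent.Lib.Sporadic.RuLattice.SignCert1
import Cfsg.Agent.Lib.Sporadic.RuLattice.SignCert2
import Cfsg.Agent.Lib.Sporadic.RuLattice.SignCert3
import Cfsg.Agent.Lib.Sporadic.RuLattice.SignCert4
import Cfsg.Agent.Lib.Sporadic.RuLattice.SignCert5

/-! The certificates at the parity words of weight sixteen. -/

set_option autoImplicit false
set_option maxRecDepth 100000

namespace CfsgLib.Sporadic.RuLattice

theorem certs {t : ℕ} (ht : t < 1701) : certAt t = true := by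
  rcases (show t < 300 ∨ (300 ≤ t ∧ t < 600) ∨ (600 ≤ t ∧ t < 900) ∨ (900 ≤ t ∧ t < 1200) ∨
      (1200 ≤ t ∧ t < 1500) ∨ 1500 ≤ t by omega) with h | h | h | h | h | h
  · exact of_allFrom_zero certs0 h
  · exact allFrom_eq_true.1 certs1 t h.1 (by omega)
  · exact allFrom_eq_true.1 certs2 t h.1 (by omega)
  · exact allFrom_eq_true.1 certs3 t h.1 (by omega)
  · exact allFrom_eq_true.1 certs4 t h.1 (by omega)
  · exact allFrom_eq_true.1 certs5 t h (by omega)

end CfsgLib.Sporadic.RuLattice
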