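import Cfsg.Agent.Lib.Sporadic.RuLattice.ShortChecks
import Cfsg.Agent.Lib.Sporadic.RuLattice.Scan
import Cfsg.Agent.Lib.Sporadic.RuLattice.SignCerts

/-! Every vector of norm sixteen in the lattice is listed in the table of keys. -/

set_option autoImplicit false
set_option maxRecDepth 100000

namespace CfsgLib.Sporadic.RuLattice

open CfsgLib.Recognition.RuLattice

theorem short_pos {A : Finset (Fin 56)} (hA : A.card ≤ 2) :
    inT shortSumT 1597 (cs A) = true ∧
      ∀ i : Fin 56, i ∈ A ↔ (posOf (cs A) % 64 = i.val + 1 ∨ posOf (cs A) / 64 = i.val + 1) := by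
  rcases (show A.card = 0 ∨ A.card = 1 ∨ A.card = 2 by omega) with h | h | h
  · obtain rfl := Finset.card_eq_zero.1 h
    have e : cs (∅ : Finset (Fin 56)) = 0 := rfl
    rw [e, pos_zero.2]
    exact ⟨pos_zero.1, fun i => by simp⟩
  · obtain ⟨a, rfl⟩ := Finset.card_eq_one.1 h
    have e : cs {a} = col a := by rw [cs, Finset.fold_singleton, Nat.xor_zero]
    rw [e, (pos_one a).2]
    refine ⟨(pos_one a).1, fun i => ?_⟩
    rw [Finset.mem_singleton]
    have := a.isLt
    constructor
    · rintro rfl; left; omega
    · rintro (h | h) <;> exact Fin.ext (by omega)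
  · obtain ⟨a, b, hab, rfl⟩ : ∃ a b : Fin 56, b < a ∧ A = {a, b} := by
      obtain ⟨x, y, hxy, rfl⟩ := Finset.card_eq_two.1 h
      rcases lt_or_gt_of_ne hxy with hl | hl
      · exact ⟨y, x, hl, Finset.pair_comm x y⟩
      · exact ⟨x, y, hl, rfl⟩
    have e : cs {a, b} = col a ^^^ col b := by
      rw [cs, Finset.fold_insert (by simp [ne_of_gt hab]), Finset.fold_singleton, Nat.xor_zero]
    rw [e, (pos_two a b hab).2]
    refine ⟨(pos_two a b hab).1, fun i => ?_⟩
    rw [Finset.mem_insert, Finset.mem_singleton]
    have := a.isLt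
    have := b.isLt
    constructor
    · rintro (rfl | rfl)
      · right; omega
      · left; omega
    · rintro (h | h)
      · exact .inr (Fin.ext (by omega))
      · exact .inl (Fin.ext (by omega))

theorem short_injective {A B : Finset (Fin 56)} (hA : A.card ≤ 2) (hB : B.card ≤ 2)
    (h : cs A = cs B) : A = B := by
  ext i
  rw [(short_pos hA).2 i, (short_pos hB).2 i, h]

theorem even_case {x : Fin 56 → ℤ} (hx : x ∈ span) (h16 : dot x x = 16)
    (hw : ∀ i : Fin 56, (0 : ℕ).testBit i.val = decide (x i % 2 = 1)) :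
    inT keyT 16240 (key x) = true := by
  have heven : ∀ i, x i % 2 ≠ 1 := fun i => by simpa using hw i
  have hT : highS x = Finset.univ.filter fun i => x i % 4 = 2 :=
    Finset.filter_congr fun i _ => by have := heven i; omega
  have hc := card_le_dot x
  rw [h16] at hc
  have hsyn := syn_eq hx hw
  rw [synv_zero] at hsyn
  have hempty : highS x = ∅ := by
    by_contra hne
    obtain ⟨A, hAT, hA⟩ := Finset.exists_subset_card_eq (s := highS x) (n := min 2 (highS x).card)
      (min_le_right _ _)
    have hpos : 0 < (highS x).card := Finset.card_pos.2 (Finset.nonempty_iff_ne_empty.2 hne)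
    have h4 : (highS x).card ≤ 4 := by rw [hT]; omega
    have hB : (highS x \ A).card ≤ 2 := by rw [Finset.card_sdiff_of_subset hAT, hA]; omega
    have hd : Disjoint A (highS x \ A) := Finset.disjoint_sdiff
    have e : cs A = cs (highS x \ A) := by
      rw [← Finset.union_sdiff_of_subset hAT, cs_disjoint hd] at hsyn
      exact Nat.xor_eq_zero_iff.1 hsyn
    have hAB := short_injective (by omega) hB e
    rw [← hAB, disjoint_self, Finset.bot_eq_empty] at hd
    rw [hd, Finset.card_empty] at hA
    omega
  have h4 : ∀ i, ∃ z, x i = 4 * z := fun i => by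
    have h1 : i ∉ highS x := by simp [hempty]
    simp only [highS, Finset.mem_filter, Finset.mem_univ, true_and, not_le] at h1
    have := heven i
    exact ⟨x i / 4, by omega⟩
  choose z hz using h4
  have hz1 : ∑ i, z i * z i = 1 := by
    have : dot x x = 16 * ∑ i, z i * z i := by
      simp only [dot, hz, Finset.mul_sum]
      exact Finset.sum_congr rfl fun i _ => by ring
    omega
  obtain ⟨i, hi⟩ : ∃ i, z i ≠ 0 := by
    by_contra h
    push Not at h
    simp [h] at hz1
  have hs := Finset.add_sum_erase Finset.univ (fun j => z j * z j) (Finset.mem_univ i)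
  have hnn : 0 ≤ ∑ j ∈ Finset.univ.erase i, z j * z j := Finset.sum_nonneg fun j _ => mul_self_nonneg _
  have hi1 : z i * z i = 1 := by
    have := mul_self_pos.2 hi
    omega
  have hrest : ∀ j, j ≠ i → z j = 0 := fun j hj => mul_self_eq_zero.1
    ((Finset.sum_eq_zero_iff_of_nonneg fun k _ => mul_self_nonneg (z k)).1
      (by omega) j (Finset.mem_erase.2 ⟨hj, Finset.mem_univ j⟩))
  have hx' : x = Pi.single i (4 * z i) := funext fun j => by
    by_cases hj : j = i
    · subst hj; rw [Pi.single_eq_same, hz]
    · rw [Pi.single_eq_of_ne hj, hz, hrest j hj, mul_zero]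
  rw [hx']
  rcases Int.eq_one_or_neg_one_of_mul_eq_one hi1 with e | e <;> rw [e]
  · exact (four_keys i).1
  · exact (four_keys i).2

theorem eight_case {x : Fin 56 → ℤ} (hx : x ∈ span) (h16 : dot x x = 16) {w : ℕ} (he : w ∈ eightT)
    (hw : ∀ i : Fin 56, w.testBit i.val = decide (x i % 2 = 1)) : False := by
  obtain ⟨e, hel, rfl⟩ := List.getElem_of_mem he
  set e' : Fin 7 := ⟨e, eight_length ▸ hel⟩
  have hg : eightT[e] = eightT.getD e'.val 0 := (List.getD_eq_getElem _ _ hel).symm
  rw [hg] at hw
  have hcard : (oddS x).card = 8 := by rw [odd_card hw, eight_weight]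
  have hc := card_le_dot x
  rw [h16, hcard] at hc
  set T := Finset.univ.filter fun i => x i % 4 = 2 with hT
  set S := Finset.univ.filter fun i => x i % 4 = 3 with hS
  have hU : highS x = S ∪ T := by
    ext i
    simp only [highS, hS, hT, Finset.mem_filter, Finset.mem_union, Finset.mem_univ, true_and]
    omega
  have hd : Disjoint S T := Finset.disjoint_filter.2 fun i _ h1 h2 => by omega
  obtain ⟨s, hs⟩ := exists_signs fun n => decide (eightIdx e' n ∈ S)
  have hSimg : S = (Finset.univ.filter fun n : Fin 8 => s.val.testBit n.val = true).image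
      (eightIdx e') := by
    ext i
    simp only [Finset.mem_image, Finset.mem_filter, Finset.mem_univ, true_and, hs, decide_eq_true_eq]
    constructor
    · intro hi
      have hodd : x i % 2 = 1 := by
        simp only [hS, Finset.mem_filter] at hi
        omega
      obtain ⟨n, rfl⟩ := eight_support e' i (by rw [hw i, decide_eq_true_eq]; exact hodd)
      exact ⟨n, hi, rfl⟩
    · rintro ⟨n, hn, rfl⟩
      exact hn
  have hsum : cs S = eightSum e' s := by
    rw [hSimg, cs, eightSum, Finset.fold_image fun a _ b _ h => eight_injective e' a b h]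
    rfl
  have hsyn := syn_eq hx hw
  rw [hU, cs_disjoint hd, hsum] at hsyn
  have hshort := (short_pos (A := T) (by omega)).1
  rw [show cs T = synv (eightT.getD e'.val 0) ^^^ eightSum e' s by
    rw [← hsyn, Nat.xor_comm (eightSum e' s), Nat.xor_assoc, Nat.xor_self, Nat.xor_zero]] at hshort
  rw [eight_short] at hshort
  exact Bool.noConfusion hshort

theorem ofBits_filter (U : Finset (Fin 56)) (v : ℕ) :
    weight (Nat.ofBits (fun i : Fin 56 => decide (i ∈ U)) &&& v) =
      (U.filter fun i => v.testBit i.val = true).card := by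
  rw [weight_eq, Finset.sum_range, Finset.card_filter]
  rw [← Finset.sum_subset (Finset.subset_univ U) (fun i _ hi => by
    simp [Nat.testBit_and, Nat.testBit_ofBits_lt _ _ i.isLt, hi])]
  refine Finset.sum_congr rfl fun i hi => ?_
  rw [Nat.testBit_and, Nat.testBit_ofBits_lt _ _ i.isLt]
  simp only [Fin.eta, hi, decide_true, Bool.true_and]
  cases v.testBit i.val <;> rfl

theorem sixteen_case {x : Fin 56 → ℤ} (hx : x ∈ span) (h16 : dot x x = 16) {t : ℕ} (ht : t < 1701)
    (hw : ∀ i : Fin 56, (parT.get t).testBit i.val = decide (x i % 2 = 1)) :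
    inT keyT 16240 (key x) = true := by
  have hf := of_allFrom_zero parT_facts ht
  simp only [Bool.and_eq_true, beq_iff_eq] at hf
  have hP : parT.get t < 2 ^ 56 := by
    have := hf.2
    rw [Nat.shiftRight_eq_div_pow, Nat.div_eq_zero_iff] at this
    exact this.resolve_left (by norm_num)
  set P := parT.get t
  have hcard : (oddS x).card = 16 := by rw [odd_card hw, hf.1]
  have hpm : ∀ i, (x i % 2 = 1 → x i = 1 ∨ x i = -1) ∧ (x i % 2 ≠ 1 → x i = 0) := by
    have h0 : ∑ i, (x i * x i - if x i % 2 = 1 then 1 else 0) = 0 := by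
      rw [Finset.sum_sub_distrib, Finset.sum_boole]
      change dot x x - ((oddS x).card : ℤ) = 0
      rw [h16, hcard]
      rfl
    have hnn : ∀ i ∈ (Finset.univ : Finset (Fin 56)), 0 ≤ x i * x i - if x i % 2 = 1 then 1 else 0 := by
      intro i _
      split_ifs with h
      · have : x i ≠ 0 := by omega
        have := mul_self_pos.2 this
        omega
      · simpa using mul_self_nonneg (x i)
    intro i
    have := (Finset.sum_eq_zero_iff_of_nonneg hnn).1 h0 i (Finset.mem_univ i)
    constructor
    · intro h
      rw [if_pos h] at this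
      have h1 : x i * x i = 1 := by omega
      exact Int.eq_one_or_neg_one_of_mul_eq_one h1
    · intro h
      rw [if_neg h, sub_zero] at this
      exact mul_self_eq_zero.1 this
  set u := Nat.ofBits fun i : Fin 56 => decide (i ∈ highS x) with hu
  have hbit : ∀ i : Fin 56, u.testBit i.val = decide (x i = -1) := fun i => by
    rw [hu, Nat.testBit_ofBits_lt _ _ i.isLt]
    simp only [Fin.eta, highS, Finset.mem_filter, Finset.mem_univ, true_and]
    refine decide_eq_decide.2 ?_
    by_cases h : x i % 2 = 1
    · rcases (hpm i).1 h with e | e <;> rw [e] <;> decide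
    · rw [(hpm i).2 h]; decide
  have hsub : u &&& P = u := Nat.eq_of_testBit_eq fun j => by
    rw [Nat.testBit_and]
    rcases Nat.lt_or_ge j 56 with hj | hj
    · rw [show j = (⟨j, hj⟩ : Fin 56).val from rfl, hbit, hw]
      by_cases h : x ⟨j, hj⟩ = -1 <;> simp [h]
    · rw [hu, Nat.testBit_ofBits_ge _ _ hj]; rfl
  have hpar : ∀ k : Fin 19, par (u &&& parW k) = (synv P).testBit k.val := fun k => by
    rw [← syn_eq hx hw, testBit_cs, par, hu, ofBits_filter]
    exact beq_eq_decide _ _
  have hkey := key_of_certOK (certs ht) hP hsub hpar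
  have e : key x + 2 * ∑ i ∈ Finset.range 56, (if u.testBit i then 16 ^ i else 0) = keyP P := by
    rw [key, keyP, keyL_ofFn, keyL_ofFn, Finset.sum_range, Finset.mul_sum, ← Finset.sum_add_distrib]
    refine Finset.sum_congr rfl fun i _ => ?_
    rw [hw i, hbit i]
    by_cases h : x i % 2 = 1
    · rcases (hpm i).1 h with e | e <;> rw [e] <;> simp <;> ring
    · rw [(hpm i).2 h]; simp
  rw [← e, Nat.add_sub_cancel] at hkey
  exact hkey

/-- Every vector of norm sixteen is in the table. -/
theorem min_mem {x : Fin 56 → ℤ} (hx : x ∈ span) (h16 : dot x x = 16) :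
    ∃ i < 16240, keyT.get i = key x ∧ minV i = x := by
  have h : inT keyT 16240 (key x) = true := by
    obtain ⟨w, hwc, hw⟩ := parity_mem par_checkA hx
    rcases scan_cases hwc with h | rfl | h | ⟨t, ht, rfl⟩
    · exfalso
      have hc := card_le_dot x
      rw [odd_card hw, h16] at hc
      omega
    · exact even_case hx h16 hw
    · exact (eight_case hx h16 h hw).elim
    · exact sixteen_case hx h16 ht hw
  obtain ⟨i, hi, e⟩ := exists_of_inT (by norm_num) h
  exact ⟨i, hi, e, by rw [minV, e, decV_key (bounded_of_dot h16)]⟩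

end CfsgLib.Sporadic.RuLattice
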