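import Cfsg.Agent.Lib.Sporadic.Chain

/-! Generated membership certificates for a basis of the lattice. -/

set_option autoImplicit false
set_option maxRecDepth 20000

namespace CfsgLib.Sporadic.RuLattice

/-- The generators modulo 4 as combinations of moved table vectors. -/
def genCert : List (List (ℕ × List ℕ × ℕ)) := [[(3, [], 5), (2, [4], 5), (3, [], 7), (3, [], 6), (3, [], 8), (1, [], 1), (3, [], 14), (1, [], 3), (2, [4], 7), (2, [1], 5), (1, [], 15), (3, [], 13), (1, [], 16), (1, [], 9), (3, [4], 1), (3, [], 17), (1, [1], 1), (3, [2], 2), (1, [], 18), (1, [], 11), (2, [2], 1), (1, [4], 2), (3, [], 19), (1, [1], 2), (1, [2], 3), (2, [0], 5), (2, [0], 3)],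
  [(2, [], 1), (2, [0], 1), (3, [4], 5), (1, [4, 4], 5), (2, [1], 5), (1, [], 3), (3, [2], 5), (1, [0], 5), (1, [], 2), (3, [0], 2), (2, [], 6), (3, [], 7), (2, [], 8), (3, [], 13), (3, [], 15), (2, [1], 1), (3, [], 17), (1, [4], 3), (1, [], 18), (1, [1], 2), (2, [], 9)],
  [(3, [], 5), (3, [4], 5), (1, [2], 5), (2, [], 1), (3, [1], 5), (2, [0], 5), (2, [], 2), (2, [0], 3), (1, [0], 2), (3, [], 6), (2, [], 7), (3, [4], 6), (2, [], 13), (2, [], 8), (3, [], 10), (1, [], 14), (2, [], 15), (3, [4], 7), (1, [], 16), (2, [], 9), (3, [4], 1), (3, [], 17), (2, [1], 1), (1, [0], 6), (1, [1], 3), (3, [2], 2), (2, [2], 1), (2, [], 18), (3, [4], 3), (1, [1], 2)],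
  [(3, [4], 5), (3, [0], 1), (2, [4, 4], 5), (1, [1], 5), (1, [], 1), (3, [], 3), (3, [2], 5), (1, [], 6), (3, [], 7), (3, [], 2), (2, [4], 6), (1, [], 10), (1, [], 12), (1, [], 11), (2, [], 14), (1, [], 15), (2, [], 13), (1, [], 16), (3, [], 9), (3, [4], 1), (2, [0], 2), (3, [1], 1), (2, [2], 1), (2, [], 18), (2, [4], 3), (1, [4], 2), (3, [], 19), (1, [1], 2), (1, [0], 3), (3, [2], 2)],
  [(1, [1], 5), (2, [], 1), (1, [0], 1), (3, [], 5), (1, [4, 4], 5), (3, [4], 5), (3, [2], 5), (2, [], 6), (2, [], 8), (2, [], 2), (2, [4], 6), (1, [], 11), (3, [], 14), (3, [4], 7), (3, [], 15), (2, [], 13), (1, [], 16), (2, [], 9), (2, [4], 1), (3, [1], 1), (3, [2], 2), (3, [], 17), (1, [1], 6), (2, [0], 2), (3, [0], 6), (1, [0], 5), (3, [2], 1), (3, [], 18), (3, [4], 2)],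
  [(3, [4, 4], 5), (1, [], 5), (1, [0], 1), (2, [4], 5), (1, [1], 5), (1, [], 3), (2, [2], 5), (3, [0], 5), (3, [], 2), (2, [0], 3), (2, [0], 2), (1, [], 11), (3, [4], 6), (3, [], 14), (3, [], 15), (2, [], 8), (3, [4], 7), (1, [], 16), (1, [], 9), (1, [1], 1), (2, [], 18), (2, [4], 3), (1, [4], 2), (3, [], 19), (1, [], 10), (3, [4], 1), (3, [2], 2)],
  [(3, [2], 5), (2, [], 1), (2, [0], 1), (3, [0], 5), (2, [], 2), (1, [0], 3), (3, [0], 2), (2, [], 6), (1, [], 7), (2, [], 8), (1, [4], 6), (2, [], 13), (1, [], 12), (3, [], 14), (1, [4], 7), (1, [4], 1), (3, [], 10), (1, [1], 1), (3, [], 17), (3, [], 18), (1, [2], 6), (3, [], 16), (3, [], 9), (1, [4], 3), (3, [4], 2)],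
  [(1, [], 1), (2, [], 5), (1, [], 2), (1, [0], 3), (2, [0], 2), (1, [], 11), (2, [], 7), (1, [], 8), (3, [4], 6), (3, [4], 5), (2, [1], 5), (3, [], 10), (1, [], 14), (1, [], 15), (2, [], 13), (2, [1], 1), (1, [0], 6), (2, [], 9), (1, [1], 3), (1, [2], 1), (3, [4], 3), (1, [2], 6), (3, [], 16), (3, [4], 2), (3, [1], 2), (1, [2], 3)],
  [(2, [], 6), (3, [], 5), (3, [], 1), (1, [], 7), (1, [4], 6), (3, [0], 1), (3, [4], 5), (3, [1], 5), (1, [], 3), (1, [], 10), (2, [], 14), (1, [], 15), (1, [4], 1), (1, [1], 1), (2, [2], 2), (3, [4], 3), (2, [], 18), (3, [2], 1), (3, [4], 2), (3, [], 19), (1, [1], 6), (3, [], 12), (3, [0], 6), (1, [0], 5), (3, [0], 3), (2, [], 9), (1, [2], 6), (3, [], 16), (1, [2], 3)],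
  [(3, [], 11), (3, [], 5), (2, [], 2), (3, [], 6), (2, [], 13), (2, [], 3), (3, [], 8), (3, [], 10), (3, [], 15), (3, [], 14), (3, [0], 1), (3, [1], 5), (2, [0], 2), (3, [4], 1), (1, [1], 1), (2, [2], 5), (2, [0], 5), (3, [0], 3), (1, [], 18), (3, [2], 1), (3, [4], 3), (1, [1], 6), (3, [1], 3), (2, [2], 2), (3, [4], 2), (1, [2], 3)],
  [(1, [], 7), (2, [], 5), (3, [], 6), (1, [], 8), (2, [], 2), (1, [4], 6), (3, [0], 1), (3, [1], 5), (3, [2], 5), (1, [], 10), (3, [], 15), (2, [], 13), (1, [], 14), (3, [4], 7), (3, [4], 1), (3, [0], 2), (3, [], 17), (2, [1], 1), (3, [2], 2), (1, [1], 3), (2, [], 18), (2, [], 11), (2, [4], 3), (1, [4], 2), (3, [], 19), (1, [1], 2), (1, [2], 3), (2, [], 9)],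
  [(1, [], 6), (3, [], 7), (2, [4], 6), (1, [1], 5), (3, [], 3), (3, [2], 5), (2, [], 13), (2, [], 11), (2, [], 9), (3, [0], 2), (3, [2], 2), (1, [1], 1), (2, [], 17), (2, [0], 5), (3, [0], 3), (3, [], 18), (3, [4], 3), (3, [4], 2), (3, [], 19), (1, [1], 6), (3, [1], 3), (1, [2], 6)],
  [(3, [4], 6), (2, [0], 1), (2, [], 5), (3, [4], 5), (3, [], 1), (2, [], 3), (3, [2], 5), (1, [], 10), (3, [], 2), (1, [], 12), (3, [], 11), (2, [], 14), (2, [], 7), (2, [], 15), (1, [], 8), (2, [], 13), (2, [4], 7), (1, [], 16), (1, [], 9), (3, [2], 2), (3, [], 17), (1, [1], 3), (2, [4], 3), (2, [], 18), (3, [2], 1), (3, [0], 3), (1, [0], 2), (2, [0], 5)],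
  [(3, [], 3), (2, [], 1), (1, [], 6), (3, [], 7), (3, [], 8), (2, [], 10), (1, [], 15), (2, [], 14), (2, [4], 7), (1, [0], 1), (1, [1], 5), (3, [], 9), (2, [4], 1), (1, [1], 1), (3, [], 11), (2, [2], 1), (2, [4], 3), (3, [4], 2), (3, [], 19), (1, [1], 6), (2, [0], 2), (3, [], 12), (3, [0], 6), (1, [2], 5), (3, [0], 5), (1, [0], 3), (3, [1], 3), (2, [2], 2), (1, [2], 6), (1, [2], 3)],
  [(1, [], 10), (2, [], 5), (3, [], 1), (1, [], 12), (2, [], 3), (3, [], 6), (2, [], 11), (1, [], 14), (1, [], 7), (3, [], 15), (3, [], 8), (1, [], 13), (3, [0], 1), (2, [0], 2), (3, [4], 1), (1, [2], 2), (1, [1], 3), (1, [], 18), (1, [2], 1), (3, [], 19), (1, [2], 6), (1, [2], 5), (3, [], 16), (1, [], 9), (1, [0], 3)],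
  [(3, [], 5), (2, [], 3), (1, [], 1), (3, [], 6), (2, [], 11), (2, [], 14), (3, [], 15), (1, [], 8), (1, [], 13), (1, [4], 7), (3, [4], 5), (1, [0], 1), (2, [1], 5), (1, [], 16), (2, [], 9), (2, [0], 2), (3, [], 10), (2, [2], 1), (2, [], 18), (3, [4], 3), (1, [1], 6), (3, [0], 6), (2, [2], 5), (1, [0], 5), (3, [0], 3), (3, [4], 2)],
  [(3, [], 14), (3, [], 5), (3, [], 3), (3, [], 1), (3, [], 15), (3, [1], 1), (2, [0], 1), (1, [], 17), (2, [4], 5), (3, [1], 5), (2, [0], 2), (1, [], 11), (2, [], 9), (3, [], 10), (3, [], 18), (1, [1], 2), (1, [1], 6), (3, [], 12), (3, [1], 3), (3, [4], 2), (1, [2], 3)],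
  [(1, [], 15), (3, [], 1), (3, [], 6), (1, [], 7), (2, [], 8), (1, [], 2), (3, [], 14), (2, [4], 7), (2, [4], 5), (3, [0], 1), (3, [], 9), (1, [], 17), (1, [0], 6), (3, [2], 5), (1, [0], 5), (1, [0], 2), (3, [], 11), (3, [4], 1), (2, [], 18), (3, [2], 1), (3, [], 19), (1, [2], 6), (1, [2], 2), (3, [1], 2), (1, [2], 3)],
  [(1, [4], 7), (1, [4], 5), (2, [], 5), (3, [0], 1), (3, [], 1), (1, [], 3), (1, [], 7), (2, [], 6), (1, [], 14), (1, [], 15), (3, [], 8), (1, [], 2), (3, [], 13), (1, [4], 1), (1, [], 17), (3, [2], 1), (2, [], 18), (3, [], 11), (2, [4], 3), (3, [], 19), (1, [], 10), (1, [1], 6), (3, [0], 2), (3, [], 12), (3, [0], 6), (1, [0], 5), (3, [], 9), (3, [1], 3)],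
  [(3, [], 1), (2, [], 2), (1, [], 7), (1, [], 9), (2, [], 8), (3, [], 13), (1, [], 14), (3, [], 15), (3, [4], 1), (3, [0], 1), (2, [4], 5), (2, [0], 2), (3, [], 10), (1, [0], 6), (1, [2], 5), (3, [0], 5), (1, [0], 3), (3, [], 11), (3, [1], 1), (1, [1], 3), (1, [2], 2), (3, [], 19), (1, [2], 6), (3, [2], 1), (1, [4], 3), (3, [1], 2)],
  [(2, [], 8), (2, [], 5), (3, [], 2), (3, [], 1), (2, [], 6), (1, [4], 1), (2, [], 14), (2, [], 3), (1, [2], 1), (3, [4], 3), (1, [0], 3), (3, [0], 2), (2, [2], 5), (2, [1], 5), (2, [], 15), (2, [], 13), (2, [2], 2), (1, [2], 3)],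
  [(3, [], 14), (3, [], 5), (1, [], 3), (1, [], 6), (3, [], 7), (2, [], 18), (3, [], 2), (2, [2], 1), (1, [4], 3), (1, [4], 2), (3, [], 19), (1, [], 10), (1, [], 15), (3, [], 13), (2, [], 9), (1, [2], 3), (2, [0], 1), (2, [1], 1), (3, [2], 2), (2, [0], 5), (2, [0], 3), (2, [0], 2)],
  [(1, [], 3), (1, [], 1), (2, [0], 1), (3, [], 5), (2, [4], 5), (2, [0], 2), (2, [], 6), (2, [], 8), (3, [], 10), (1, [], 15), (3, [4], 1), (3, [], 17), (3, [1], 1), (1, [4], 3), (2, [2], 1), (1, [1], 2)],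
  [(1, [1], 1), (2, [0], 1), (1, [], 5), (1, [], 3), (1, [2], 2), (3, [], 17), (2, [], 6), (2, [], 13), (3, [], 8), (2, [], 14), (1, [1], 3), (2, [], 18), (3, [], 19), (1, [], 10), (3, [], 15), (1, [2], 6), (2, [1], 5), (1, [2], 5), (3, [], 16), (3, [], 9), (2, [4], 5), (1, [0], 2), (3, [0], 3), (2, [0], 5)],
  [(2, [], 17), (3, [], 5), (1, [], 3), (2, [], 1), (1, [], 2), (1, [], 6), (1, [], 8), (1, [], 14), (2, [1], 1), (3, [0], 1), (3, [2], 2), (2, [4], 5), (2, [2], 5), (3, [1], 5), (1, [0], 3), (2, [0], 2), (1, [], 11), (3, [], 10), (2, [], 15), (1, [2], 1), (3, [], 18), (2, [4], 3), (1, [1], 2), (1, [1], 6), (3, [], 12), (3, [4], 2), (1, [2], 3)],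
  [(3, [2], 2), (1, [], 1), (2, [0], 1), (2, [], 3), (3, [], 2), (1, [], 17), (1, [], 6), (1, [], 13), (3, [], 7), (2, [], 8), (2, [], 14), (2, [4], 5), (3, [1], 5), (2, [0], 2), (3, [], 10), (2, [], 15), (3, [2], 1), (1, [1], 2), (1, [1], 6), (3, [], 12), (3, [4], 2), (1, [2], 3)],
  [(1, [0], 6), (2, [], 1), (3, [0], 1), (1, [], 5), (2, [4], 5), (2, [2], 5), (1, [], 3), (3, [0], 5), (3, [], 2), (1, [0], 3), (2, [0], 2), (1, [], 11), (3, [], 7), (3, [], 8), (1, [], 9), (2, [], 13), (3, [], 14), (3, [], 15), (2, [4], 1), (2, [], 17), (3, [1], 1), (2, [], 18), (2, [4], 3), (3, [2], 1), (1, [4], 2), (3, [], 19), (1, [1], 2), (3, [2], 2)],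
  [(2, [], 1), (3, [1], 1), (3, [], 5), (3, [], 13), (1, [], 14), (3, [2], 2), (1, [1], 6), (1, [1], 5), (1, [0], 2), (3, [], 12), (2, [], 15), (1, [4], 1), (3, [0], 6), (2, [2], 5), (3, [0], 5), (1, [0], 3), (3, [], 9), (3, [], 18), (3, [4], 2)],
  [(1, [], 18), (1, [], 1), (1, [], 11), (3, [2], 1), (3, [4], 3), (3, [], 19), (1, [], 10), (3, [], 15), (2, [], 8), (1, [], 13), (2, [0], 1), (1, [1], 1), (1, [2], 6), (2, [1], 5), (1, [2], 5), (3, [], 16), (1, [], 9), (2, [4], 5), (1, [0], 2), (1, [2], 2), (3, [0], 3), (2, [0], 5)],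
  [(1, [], 1), (1, [], 2), (1, [], 18), (2, [], 5), (3, [], 3), (3, [], 6), (3, [], 7), (2, [4], 3), (3, [0], 1), (1, [1], 1), (3, [], 13), (2, [], 8), (1, [1], 6), (2, [4], 5), (3, [1], 5), (3, [], 12), (2, [], 15), (2, [4], 1), (3, [0], 6), (1, [2], 5), (1, [0], 5), (3, [0], 3), (2, [], 9), (3, [1], 3), (3, [2], 2), (2, [4], 2), (1, [2], 6), (3, [], 16)],
  [(1, [4], 3), (2, [], 14), (3, [], 5), (3, [], 6), (1, [], 7), (2, [], 18), (2, [], 2), (1, [], 11), (3, [], 19), (1, [], 10), (3, [], 15), (1, [], 8), (3, [], 13), (1, [1], 2), (1, [0], 1), (1, [1], 1), (3, [], 17), (1, [1], 6), (3, [1], 5), (2, [0], 2), (3, [], 12), (3, [0], 6), (2, [2], 5), (3, [0], 5), (1, [0], 3), (3, [], 9), (3, [1], 3), (1, [2], 2)],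
  [(1, [4], 2), (1, [], 14), (1, [], 5), (3, [], 3), (3, [], 1), (3, [], 6), (1, [], 7), (3, [], 19), (2, [], 2), (1, [], 10), (3, [], 15), (2, [], 8), (1, [], 13), (3, [4], 1), (3, [0], 3), (2, [0], 1), (1, [0], 2), (2, [2], 5), (2, [1], 5), (2, [1], 1), (3, [2], 2), (2, [], 11), (3, [2], 1), (2, [0], 5)],
  [(2, [], 1), (2, [0], 1), (2, [], 5), (2, [], 3), (3, [1], 1), (1, [], 2), (1, [], 6), (3, [], 13), (1, [], 7), (2, [], 14), (3, [], 11), (1, [1], 6), (2, [4], 5), (1, [1], 5), (3, [0], 2), (3, [], 12), (2, [], 15), (2, [4], 1), (3, [0], 6), (1, [2], 5), (3, [0], 5), (1, [0], 3), (3, [1], 3), (3, [2], 1), (2, [4], 2), (1, [2], 6), (3, [], 16), (1, [4], 3)],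
  [(1, [1], 6), (1, [], 1), (3, [0], 1), (1, [], 5), (2, [4], 5), (3, [1], 5), (1, [], 3), (3, [], 6), (2, [], 11), (3, [], 2), (2, [], 7), (3, [], 8), (3, [], 12), (1, [], 14), (2, [], 15), (2, [], 13), (2, [4], 1), (1, [], 17), (3, [0], 6), (1, [2], 5), (1, [0], 5), (3, [0], 3), (2, [], 9), (3, [1], 3), (2, [2], 2), (3, [], 18), (2, [4], 2), (1, [2], 6), (3, [], 16), (1, [4], 3), (3, [1], 2), (1, [2], 3)],
  [(1, [2], 6), (2, [1], 5), (3, [], 3), (1, [2], 5), (1, [], 6), (1, [], 13), (2, [], 7), (1, [], 8), (3, [], 2), (2, [], 14), (2, [], 15), (3, [], 16), (1, [], 9), (1, [4], 1), (2, [4], 5), (3, [0], 2), (2, [1], 1), (1, [], 17), (2, [], 18), (2, [], 11), (1, [4], 3), (3, [4], 2), (3, [1], 2), (1, [0], 3), (1, [2], 3)],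
  [(3, [2], 1), (2, [], 1), (2, [], 2), (2, [], 3), (2, [], 11), (2, [], 14), (2, [1], 5), (1, [0], 1), (1, [0], 2), (2, [1], 1), (3, [2], 2), (2, [0], 5), (2, [0], 3)],
  [(3, [0], 3), (2, [], 5), (1, [0], 1), (3, [], 1), (3, [], 2), (2, [2], 5), (2, [], 6), (2, [], 15), (2, [], 8), (2, [], 13), (2, [], 14), (2, [1], 1), (1, [2], 2), (2, [], 18), (2, [], 9), (1, [2], 3), (2, [0], 5)],
  [(2, [], 1), (2, [1], 5), (1, [0], 1), (2, [], 3), (1, [0], 2), (2, [], 6), (2, [], 8), (2, [1], 1), (3, [2], 2), (2, [], 18), (1, [2], 1), (2, [0], 5), (2, [0], 3), (2, [], 9)],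
  [(1, [2], 3), (2, [0], 1), (2, [], 5), (1, [], 3), (1, [], 2), (2, [1], 1), (2, [], 13), (2, [], 8), (3, [2], 2), (2, [], 11), (2, [0], 5), (2, [0], 3), (2, [0], 2), (2, [], 15)],
  [(2, [0], 5), (2, [0], 1), (2, [], 5), (2, [], 3), (2, [0], 3), (2, [0], 2), (2, [], 6), (2, [], 14), (2, [], 15), (2, [], 13), (2, [1], 1), (2, [2], 1), (2, [], 18), (2, [], 9)]]

/-- Words carrying the first table vector to four times each unit vector. -/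
def fourCert : List (List ℕ) := [[],
  [0],
  [3, 1, 0],
  [1],
  [3, 2, 0],
  [2],
  [1, 2, 0],
  [2, 1],
  [4, 4, 4, 4, 4, 4],
  [4, 4, 4, 4, 4, 4, 0],
  [4, 4, 4, 4, 4, 4, 3, 1, 0],
  [4, 4, 4, 4, 4, 4, 1],
  [4, 4, 4, 4, 4, 4, 3, 2, 0],
  [4, 4, 4, 4, 4, 4, 2],
  [4, 4, 4, 4, 4, 4, 1, 2, 0],
  [4, 4, 4, 4, 4, 4, 2, 1],
  [4, 4, 4, 4, 4],
  [4, 4, 4, 4, 4, 0],
  [4, 4, 4, 4, 4, 3, 1, 0],
  [4, 4, 4, 4, 4, 1],
  [4, 4, 4, 4, 4, 3, 2, 0],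
  [4, 4, 4, 4, 4, 2],
  [4, 4, 4, 4, 4, 1, 2, 0],
  [4, 4, 4, 4, 4, 2, 1],
  [4, 4, 4, 4],
  [4, 4, 4, 4, 0],
  [4, 4, 4, 4, 3, 1, 0],
  [4, 4, 4, 4, 1],
  [4, 4, 4, 4, 3, 2, 0],
  [4, 4, 4, 4, 2],
  [4, 4, 4, 4, 1, 2, 0],
  [4, 4, 4, 4, 2, 1],
  [4, 4, 4],
  [4, 4, 4, 0],
  [4, 4, 4, 3, 1, 0],
  [4, 4, 4, 1],
  [4, 4, 4, 3, 2, 0],
  [4, 4, 4, 2],
  [4, 4, 4, 1, 2, 0],
  [4, 4, 4, 2, 1],
  [4, 4],
  [4, 4, 0],
  [4, 4, 3, 1, 0],
  [4, 4, 1],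
  [4, 4, 3, 2, 0],
  [4, 4, 2],
  [4, 4, 1, 2, 0],
  [4, 4, 2, 1],
  [4],
  [4, 0],
  [4, 3, 1, 0],
  [4, 1],
  [4, 3, 2, 0],
  [4, 2],
  [4, 1, 2, 0],
  [4, 2, 1]]

end CfsgLib.Sporadic.RuLattice
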