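import Cfsg.Agent.Lib.Sporadic.Chain

/-! Generated lanes of the lifted parity words. -/

set_option autoImplicit false
set_option maxRecDepth 20000

namespace CfsgLib.Sporadic.RuLattice

/-- For each position, the coordinates of the lifts in lanes of twelve bits. -/
def parLane : List ℕ := [0x1000000000001001000000001000001000001001001001001001000,
  0x1000000000000000001000001000000001000000000001000,
  0x4000000000004004000000004000004000004004003004004004000,
  0x1000000000000000000000000000000000000000000,
  0x4001001000005005000001004001005000005004004004004005000,
  0x4000004000000000004000004000000003000000000004000,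
  0x2000002000003002001000003000002000002002002002001003000,
  0x3003006000004004003003003005005002006003006003000004002,
  0x5000004001008004001000008002009002005006002006004008002,
  0x600000600400400400600000600600600600600a006009000006006,
  0x4000004002002001004000004004004004004004004004000002004,
  0x4000004005002002004000004004004004004006004004000006004,
  0x400200700500a00700400100600500700400500900500700200b004,
  0x1001003002006002002000002002002002001004002002001004002,
  0xa00400c00301000a00900100c00700a00600b00b00b00a00700f006,
  0x400300400600800600400000600600a00600400800200800600c006,
  0x600500d00a00a00300b00000a00d00e00e00700c00a00a00501000e,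
  0x400800900600800600800300600600900600a005009004005005006,
  0x200600600600a002007000004004004006004002006002006004006,
  0x600a00700a00800600c00000400800600800600800600600a008008,
  0x900700800c00a00200c00000800900b00c00c00800a00900800800c,
  0x700800700c00600500c00100600800900a00b00700900900700b00a,
  0x600a00600e00800600c00000600a00c00c00800a00600a00b00a00c,
  0xc00600600800800800a00000a00800b00600a00a00800c00a00a006,
  0x600b00b00700800300c00000900800b00a00600800800700a00b009,
  0x800600800600a00400600000c00600e00600600600400a00800c005,
  0x700700800600500500900000800a00b00800300a00500a006008007,
  0xc00b00d00300b00400d00100d00900b00a00900500e00c00700a007,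
  0xa00700d00400e00500a00000f00800f00a00a00900b00a00a00d009,
  0x900900700500a00600500300800900c00600600400800a00400b003,
  0x800600600800900700700000b00600e00800800b00600b00900d007,
  0xa00b00800700700200c00000a00800c00c00800500a00a008006009,
  0x800c00500d00800800900100800700d00a00800b00700900700b008,
  0xd00b00800700a00a00c00000e00b00f00a00d00c00c00e00b01000c,
  0x900a00400800800a00a00000a00600a00a00a00a00a00c00400c00a,
  0xa00e00900e00a00500e00000a00b00e00c00a00800800b00d00e00c,
  0x700900800900a00900900000c00700e00800900c00600b00501000a,
  0xb01000c00b01200c00c00300e00b01200c01300900f00900c01300e,
  0x600800c00800a00200a00000c00600c00a00900600a00600600e00a,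
  0x600800200600c006002000008003008006006006006004002004006,
  0xa00c00900900a00600b00100c00800f00b00c00800a00900900700a,
  0xa00b00600700500400900000b00700d00900b00800700800600700a,
  0xb00d00b00400800800a00300d00c01000900d00800c00b00500c00a,
  0xf00c00901000f00c00f00000e00f01101101401000f00e00d010014,
  0xd00f01100a00f00700f00300f00d01100d01000a01100a00900e00c,
  0xc00a00400c00c00a00800000c00a01000d00e00c00c00c00800e00e,
  0xe01200b00d00a00601200100d00f01101101100900f00d00c00e012,
  0x700500700b00900500800000800800900b00b00900a00500400400c,
  0x800a00d00a00d00800d00100b00c00e00c00a00b00c00c00a00f00c,
  0x900a00500c00900300c00000300c00700c00900500800700a00800c,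
  0xb00e00a00c00d00900d00000e00801000800d00900600900f00f00a,
  0x7005009006007002009000008009009008006004007007005009008,
  0xb00500b00a00c00600900000d00700e00800c00d00700900800e008,
  0xa00a00800a01000a00a00000900c00c00a00800a00a00a00e00e00a,
  0xe00e01000c00e00801000101200c01401001201001000e00a012010,
  0xe00600800a00a00400a00000a00a00a00c00c00a00c00c00400700a]

end CfsgLib.Sporadic.RuLattice
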