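import Cfsg.Agent.Lib.Sporadic.Chain

/-! Generated decompositions of the spanning vectors. -/

set_option autoImplicit false
set_option maxRecDepth 20000

namespace CfsgLib.Sporadic.RuLattice

/-- Coordinates of the spanning vectors over the lifted basis. -/
def splitBits : List ℕ := [199621992,
  104130184,
  66009952,
  232906478,
  93086542,
  157502666,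
  241390129,
  235437169,
  89200459,
  147496334,
  215005696,
  150089035,
  41575935,
  70413626,
  30453429,
  12829002,
  153243441,
  80666736,
  258477387,
  237151744,
  241336321,
  93479243,
  103950657,
  153117505,
  153151364,
  208707898,
  59827521,
  74458625,
  86131521,
  213049456,
  62005957,
  107097998,
  6326074,
  144714943,
  47325706,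
  6465716,
  6310401,
  245516593,
  227674100,
  20111994,
  1,
  1,
  6464709,
  6464709,
  144887307,
  144887307,
  146827983,
  146827983,
  227675012,
  227675012,
  227601722,
  227601722,
  87171888,
  87171888,
  87082382,
  87082382,
  160492858,
  160492858,
  22054900,
  22054900,
  166768448,
  166768448,
  19973518,
  19973518,
  245514571,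
  245514571,
  100699969,
  100699969,
  107007291,
  107007291,
  247595825,
  247595825,
  67297973,
  67297973,
  211995137,
  211995137,
  73418353,
  73418353,
  213937861,
  213937861,
  120744241,
  120744241,
  122825547,
  122825547,
  120622991,
  120622991,
  122736117,
  122736117,
  160443504,
  160443504,
  22192128,
  22192128,
  22038206,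
  22038206,
  160615118,
  160615118]

/-- Some of the parts to be multiplied by one plus i. -/
def splitZ0 : List (List ℤ) := [[0, -1, 1, -2, 2, 0, 0, 0, 0, -1, 1, -1, 3, -8, -2, 4, -5, -10, 8, 2, 3, -5, 7, -4, 0, -2, 7, 0, 5, -5, 14, -1, 10, 5, 12, -3, 15, 0, 7, -8, 3, -4, 2, 12, 12, -10, 5, -4, 12, 1, 13, 0, 10, 10, 3, -1],
  [0, 0, 0, 0, 1, 1, -3, -3, -2, 2, -1, -1, 2, 2, 3, 1, 1, -11, 2, -2, 2, 2, 5, 3, 5, -5, 8, 2, 3, 1, 8, 4, 4, -2, 8, -2, 6, -4, 6, 2, 4, 2, 1, 9, 7, -5, -2, 2, 4, -2, 14, 2, 7, 3, 3, -5],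
  [0, 0, 0, -1, 1, 1, -1, 0, 0, -1, 3, -4, 4, -7, 3, 4, -6, -2, -3, 2, -2, -3, 2, 0, -3, 2, 6, 5, 7, -5, 10, -4, 3, 6, 8, 1, 7, -1, -1, 1, 3, 1, -2, 11, 12, -8, -2, -3, 4, -7, 9, -3, 12, 4, 0, 5],
  [-1, 0, -1, 0, 2, 3, -2, -1, -3, 3, 2, -1, 2, 1, 0, -2, 1, -8, 8, -5, 4, 0, 3, -11, 1, 0, 7, -2, 3, -1, 12, 0, 12, 4, 18, 1, 24, -2, 11, -4, 7, -6, 1, 13, 7, -9, 0, -1, 9, 9, 7, -4, 14, 4, 6, -3],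
  [-1, 0, -1, 0, 1, 1, 1, 3, -3, 3, 3, -3, 0, -3, 4, -1, 0, -2, -4, 3, 3, -3, -2, 3, 3, 0, 9, 7, 3, 5, 6, 7, 1, 3, 7, 2, 8, -2, 4, 3, -1, 3, 0, 4, 13, -7, -1, -5, 2, -2, 9, 6, 9, 2, -1, 5],
  [-1, 0, 0, 0, 0, 1, -2, -2, -1, -1, -2, 0, 2, 0, 4, 2, 0, -4, 3, -4, 1, -8, 7, -7, -2, 0, 1, -3, 8, -3, 12, 1, 8, 1, 13, 2, 14, 0, 8, -2, 0, -5, 1, 9, 4, -7, -1, 1, 5, 2, 11, -7, 10, 0, 5, -6],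
  [-1, 0, -2, 0, 2, 2, -1, 0, 1, 3, 3, -3, 3, -2, 0, -3, 0, -4, 5, 1, 2, -1, 5, -4, 3, 1, -3, 6, 11, -1, 6, -3, 5, 0, 10, 4, 15, 5, -3, -4, 8, -2, 7, 8, 1, -7, 2, -3, 15, -5, 3, -1, 7, 5, 8, -4],
  [-1, 0, -2, 0, 2, 3, 0, 2, 1, 1, 3, -3, 2, -8, 1, 5, -1, -4, 3, 1, 5, -3, 9, 0, 0, -3, 3, 6, 5, 5, 0, 0, 3, 8, 1, 6, 3, 7, -2, -4, 9, 0, 9, 9, 8, -11, 6, -6, 13, -6, 7, 3, 7, -1, 0, -1],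
  [-2, 0, -1, 0, 1, 2, -3, 1, -1, 3, 2, -2, 2, -5, -4, 1, -1, -4, 4, 1, 2, 2, 4, -6, 1, -1, 0, 7, 7, 1, 3, -2, 8, 3, 9, 5, 12, 2, 0, -3, 4, -8, 5, 6, 2, -4, -3, 0, 6, 0, -2, 8, 11, 3, 4, 4],
  [-1, 0, -1, 0, 0, 0, -1, 1, -1, 2, 3, 3, 2, -5, 0, -2, 3, -3, 4, -3, 2, -1, 5, -5, -1, 3, 7, -6, 1, -5, 5, -2, 8, 8, 7, 1, 8, 0, 8, -4, 8, 0, -3, 14, 8, -5, 4, -4, 5, 1, 8, -8, 14, -5, 2, -3],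
  [0, 0, 0, 0, 0, 0, -1, -1, -2, 1, 4, -2, 4, -6, 0, 3, -2, -7, 0, -3, 2, 6, 2, -2, 1, 1, 4, 2, 4, 3, 5, -4, 11, 6, 13, -5, 11, 2, 5, -3, 7, -1, 7, 10, 6, -5, 0, -2, 6, 3, 3, -7, 4, 3, 2, 0],
  [-2, 0, -1, 0, 1, 2, -2, 2, -2, 0, 2, -1, 2, -8, -2, 7, -5, 2, -5, -2, 1, -4, 7, 0, 1, -1, -2, -1, 3, 2, 1, 1, 5, 8, 3, 0, 3, 5, -1, -3, 4, -1, 3, 10, 1, -7, 1, 1, 5, -4, 6, -4, 7, 0, 4, 2],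
  [-2, 0, -3, 0, 2, 3, -2, 2, -1, 2, 0, -1, -1, -3, 6, 0, 3, -2, -1, -2, 3, -7, 8, 0, 6, -4, 5, 4, 5, -1, 3, 6, -1, 3, 0, 7, 8, 1, 1, -1, 5, 3, -3, 10, 7, -7, -1, -4, 7, -9, 15, 5, 13, -1, 2, 0],
  [-1, 0, -1, 0, 1, 1, -1, 1, 0, 0, 1, -1, 4, -5, 3, 4, -4, -3, -3, -3, 3, -8, 10, 0, 3, -2, 1, 3, 8, 0, 7, 4, 0, 4, 4, 3, 0, 4, 2, 3, 0, 3, 0, 11, 4, -7, -2, 1, 11, -1, 9, -2, 7, 0, 2, -2],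
  [-1, 0, -3, 0, 2, 2, -2, 0, -2, 3, 3, -4, 0, -4, 4, 2, 0, -1, -4, -4, 5, 2, 7, -3, 1, -3, 3, -2, -3, 6, 5, 1, 6, 7, 9, 1, 14, 1, 6, 0, 9, -1, 0, 10, 6, -4, -2, 2, -1, -5, 10, -3, 12, 1, 6, 2],
  [-1, 0, 0, 0, 0, 1, -1, 1, -1, 0, 0, 0, 0, 0, -2, 1, 1, -6, 9, 1, 1, -6, 8, -8, 4, -2, 4, -6, 7, -7, 16, 2, 5, -5, 10, -1, 14, -1, 4, 2, 4, 0, 2, 4, 3, 0, 4, -1, 9, 0, 8, -3, 10, 4, 4, -8],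
  [-1, 0, -2, 0, 2, 2, -2, 1, -1, 1, 5, -4, 1, -3, -1, 4, 0, 0, 3, -3, 7, -3, 13, -3, 0, -2, -6, 1, 5, 2, 8, -2, 8, 7, 9, 4, 7, 9, 6, -2, 3, -3, 6, 14, 4, -9, 5, 2, 11, -1, 11, -6, 8, 2, 7, -4],
  [0, 0, -1, 0, 1, 2, 0, 0, 0, 0, -1, -2, 1, -1, 2, 3, 0, -5, 3, 4, 2, -7, 7, 2, 5, -1, 8, 1, 6, -1, 12, 6, 1, -2, 6, 5, 4, -2, 1, 7, 4, 8, -1, 7, 10, -3, 1, -6, 8, 0, 12, 1, 10, 2, 1, -4],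
  [-2, 0, -1, 0, 1, 2, -2, 2, -2, 0, 2, -1, 0, -6, -4, 5, -3, 2, 2, 1, -1, 0, 6, 1, -5, -5, 0, 3, 3, 6, 1, -1, 9, 11, 5, 9, 2, 5, 1, -2, 4, -1, 3, 8, 4, -6, 2, -6, 7, 1, 13, 6, 11, 3, 0, 3],
  [0, 0, 0, 0, 0, 0, -1, -1, -2, 2, 0, -3, 1, -2, 0, 2, -2, -4, -1, -1, 1, 0, 7, 2, -1, -4, -3, 2, 4, 2, 5, 1, 7, 3, 6, -3, 4, 0, 2, 1, 7, 1, 2, 9, 2, -3, 1, -3, 6, -1, 9, -3, 5, 4, 5, -1],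
  [-1, 0, -1, 0, 1, 1, -1, 1, 0, 0, 1, -1, -1, -2, -4, 1, 1, -1, 3, 0, 1, -1, 8, 1, 0, -2, -6, -1, 5, 2, 5, 1, 8, 5, 4, 4, 6, 5, -1, -1, 8, 2, 5, 9, -1, 1, 3, -3, 9, 1, 9, 2, 8, 5, 5, -3],
  [-2, 0, -1, 0, 1, 2, -2, 2, -1, 0, 0, -2, 0, -5, 0, 4, -2, -2, -1, -1, 4, -4, 8, 0, 5, -1, -1, 6, 10, 7, 7, 7, 5, 2, 6, 1, 5, 1, 2, 4, 2, 3, 6, 7, 4, -4, -1, 1, 9, -4, 11, 3, 12, 3, 4, 4],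
  [-1, 0, -1, 0, 1, 2, -1, 2, -1, -1, 2, -3, 1, -8, -1, 7, -4, 3, -5, -2, 2, -2, 11, 1, 0, -1, -3, 4, 5, 7, 1, 5, 3, 9, 0, 5, 0, 6, -4, 1, 6, 2, 5, 10, 0, -3, -1, 1, 7, -6, 8, 2, 9, 0, 1, 3],
  [-1, 0, -1, 0, 1, 2, -2, 1, -2, 1, 2, -5, 0, -3, 1, 4, -2, -3, 1, 0, 3, 0, 5, 2, 3, -5, -1, 5, 6, 8, 4, 2, 9, 1, 9, -5, 11, 1, 7, 1, 1, -5, 7, 5, 6, -8, 0, 0, 6, -1, 7, 2, 5, 6, 5, 4],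
  [0, 0, -1, 0, 0, 0, -1, 0, -2, 3, 1, -2, -1, 0, 4, -1, 2, -7, 2, -4, 5, -1, 5, -2, 3, -4, 3, 0, 1, 3, 7, 3, 8, 2, 11, -5, 16, -3, 13, -2, 2, -4, -1, 10, 7, -7, -1, 0, 5, 2, 13, -3, 10, 2, 7, -2],
  [-1, 0, -1, 0, 1, 1, -1, 1, 1, 0, 0, -1, 2, -4, 0, 2, -1, -4, 0, 0, -2, 1, 3, 1, 3, -5, 4, -1, 6, -1, 5, 1, 6, 1, 6, -4, 6, -1, 3, -1, 2, -2, -1, 9, 3, -3, -3, -1, 8, 8, 8, 5, 6, 5, 5, 1],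
  [-1, 0, -1, 0, 1, 2, -1, 2, -1, 0, 0, -2, -1, -5, -2, 5, -1, -6, 6, -1, 4, -2, 9, -1, 3, -6, 1, 4, 4, 6, 7, 3, 6, 1, 4, -2, 10, 1, 6, 0, 5, 1, 5, 6, 3, -4, 3, -1, 9, -8, 15, 3, 9, 6, 4, 0],
  [-1, 0, -1, 0, 1, 1, -2, 0, -2, 2, 1, -4, 0, -4, 0, 3, -3, -1, -4, -1, 0, 1, 3, 3, 2, -3, -2, 6, 4, 5, -1, 1, 2, 3, 3, 2, 5, 2, -2, 1, 5, -1, 3, 4, -1, -2, -6, 2, 1, -4, 2, 5, 5, 5, 2, 4],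
  [-1, 0, -1, 0, 1, 2, -2, 1, -2, 1, 3, -4, -1, 0, -1, 2, 0, -1, 2, -1, 2, -1, 7, 0, 1, -1, -5, 5, 9, 7, 7, 3, 7, 2, 8, 3, 6, 3, 4, 5, 0, 0, 5, 7, 1, -3, -2, 2, 8, 2, 7, 3, 11, 3, 4, 2],
  [0, 0, -1, 0, 1, 2, 0, 0, 0, 0, -1, -2, 1, -1, 2, 3, 0, -5, 1, -2, 0, -3, 7, 0, 6, 0, 3, 0, 7, 2, 11, 5, 6, 1, 7, -2, 9, -1, 4, 2, 3, 3, 4, 10, 3, -4, 0, -1, 13, 1, 11, -2, 7, 5, 4, -3],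
  [-1, 0, -2, 0, 1, 2, -2, 0, -3, 3, 1, -4, -2, -1, 4, 0, 1, 3, -9, -4, 3, 1, 3, 2, 2, 0, 0, 4, 1, 7, 2, 6, 6, 6, 7, -2, 13, -4, 3, 3, 9, 3, 4, 8, 5, -2, -1, 0, -1, -10, 12, -3, 10, 2, 6, 8],
  [-1, 0, -1, 0, 0, 0, -2, 0, -3, 3, 2, -2, 1, -4, 4, 1, -2, 1, -9, -5, 3, -4, 4, -2, -2, -2, 1, 2, 2, 1, 3, 5, 4, 8, 6, 3, 6, 2, 2, 1, 6, 3, -3, 10, 3, -4, -2, -1, 1, -2, 11, -3, 8, -2, 4, 1]]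

/-- Some of the parts to be multiplied by one plus i. -/
def splitZ1 : List (List ℤ) := [[-1, 0, -1, 0, 1, 1, -2, 0, -1, 2, 2, -2, 1, 0, -2, 0, 0, -4, 3, 0, -2, 3, 3, -1, 0, -5, 1, -3, 0, -5, 4, -2, 4, 0, 6, -2, 6, 0, 5, 1, 4, -2, -3, 6, 2, -1, -2, 2, 4, 5, 6, 3, 4, 4, 4, -2],
  [-2, 0, -3, 0, 2, 2, -2, 1, -1, 2, 1, -1, 0, -6, 3, 2, -1, 2, -6, -2, 6, -1, 4, 0, 2, -2, 2, -4, -4, 4, -3, 3, 2, 8, 3, 0, 9, 2, 3, -7, 10, -2, -1, 11, 1, -6, 3, 0, 5, -5, 9, -3, 9, -2, 5, 4],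
  [-1, 0, 0, 0, 0, 0, -2, -1, -2, 2, 0, -3, 2, -2, 2, 1, -3, -1, -8, -2, -2, -2, 0, 2, 2, 0, 0, 3, 5, 0, 4, 0, 1, 0, 4, -3, 4, 0, -1, 5, 5, 5, 2, 4, 4, -1, -1, 0, 2, -8, 8, -7, 1, 5, 4, 5],
  [0, 0, -2, 0, 1, 1, 0, 0, 0, 1, 1, -1, 1, -3, 4, 1, 1, 0, -5, -4, 3, -3, 7, -3, 0, -1, 4, -5, -1, -1, 8, 4, 2, 4, 5, 0, 8, -2, 4, 1, 7, 2, -6, 10, 5, -3, -1, 2, 1, 1, 10, -5, 10, -2, 5, -2],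
  [-1, 0, -1, 0, 1, 1, -2, 0, -2, 1, 4, -4, 1, -2, -1, 3, -2, -2, 2, -1, 2, 1, 4, -2, 0, -1, -3, -1, 1, 4, 3, -3, 2, 2, 7, 3, 9, 5, 1, 1, 4, 1, 5, 3, 1, -5, 0, 3, 4, -2, 3, -3, 4, 1, 2, -3],
  [-1, 0, -2, 0, 2, 2, -1, 2, 1, -1, 4, -2, 1, -4, -1, 4, -1, 0, 2, -1, 4, -4, 8, -2, 1, 0, -5, -1, 6, 3, 4, 2, 4, 6, 4, 7, 3, 8, -1, -3, 7, 5, 7, 12, 0, -4, 6, -3, 16, -3, 13, -4, 9, 0, 6, -3],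
  [0, 0, -2, 0, 1, 2, -1, 0, -2, 3, 2, -2, -2, 3, 4, -2, 3, 3, -6, -5, 2, -1, 3, -3, 1, 2, 2, 2, 2, 1, 2, 6, 9, 6, 5, 4, 6, -1, 4, -1, 3, -1, -1, 12, 4, -3, 1, -3, 4, 1, 8, -3, 11, -1, 5, 1],
  [-1, 0, -1, 0, 1, 2, -2, -1, -2, 2, 0, -4, 2, 0, 2, 2, -1, -6, -1, -2, -1, 0, 8, 1, 3, -3, 2, 2, 6, 2, 13, 3, 5, -1, 10, -6, 9, -3, 6, 8, -2, 0, 1, 9, 8, -6, -5, 5, 7, 3, 14, 0, 8, 6, 5, 1],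
  [1, -2, -1, 0, 1, 1, -1, 1, 0, 0, 1, -1, -1, -2, -2, 1, 0, 1, 1, 1, 2, 1, 3, 1, 1, -1, -3, 0, 0, 3, -2, 0, 0, 2, -1, 2, 1, 3, -2, -1, 3, -1, 3, 1, -2, 0, 1, 1, 1, -3, 0, 3, 3, 0, 1, 1],
  [1, 2, -1, 0, 1, 1, -1, 1, 0, 0, 1, -1, -1, -2, -2, 1, 0, 1, 1, 1, 2, 1, 3, 1, 1, -1, -3, 0, 0, 3, -2, 0, 0, 2, -1, 2, 1, 3, -2, -1, 3, -1, 3, 1, -2, 0, 1, 1, 1, -3, 0, 3, 3, 0, 1, 1],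
  [-1, 0, 0, -2, 1, 2, -1, 1, -2, 2, -1, -1, -3, -3, 1, 1, 2, 0, -2, -3, 4, -3, 9, -1, 3, -2, 1, -2, 0, 2, 4, 6, 3, 4, 2, 1, 10, -2, 2, 0, 7, -1, -2, 7, 2, -2, -2, 1, -1, -2, 7, 3, 11, -1, 4, 1],
  [-1, 0, 0, 2, 1, 2, -1, 1, -2, 2, -1, -1, -3, -3, 1, 1, 2, 0, -2, -3, 4, -3, 9, -1, 3, -2, 1, -2, 0, 2, 4, 6, 3, 4, 2, 1, 10, -2, 2, 0, 7, -1, -2, 7, 2, -2, -2, 1, -1, -2, 7, 3, 11, -1, 4, 1],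
  [-2, 0, -1, 0, 3, -1, -3, 0, -3, 2, 3, -3, 1, -3, -4, 3, -2, -5, 4, -2, 3, 0, 10, -2, 1, -1, -4, -6, 2, 2, 8, -2, 6, 6, 10, -1, 9, 6, 4, 0, 7, 1, 6, 12, 0, -5, 4, 3, 8, -2, 9, -9, 7, 2, 6, -7],
  [-2, 0, -1, 0, 3, 3, -3, 0, -3, 2, 3, -3, 1, -3, -4, 3, -2, -5, 4, -2, 3, 0, 10, -2, 1, -1, -4, -6, 2, 2, 8, -2, 6, 6, 10, -1, 9, 6, 4, 0, 7, 1, 6, 12, 0, -5, 4, 3, 8, -2, 9, -9, 7, 2, 6, -7],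
  [-2, 0, -2, 0, 1, 2, -1, -2, -4, 3, 2, -4, 0, -3, 4, 2, -1, -1, -4, -3, 6, -1, 3, -3, 4, -1, 3, -3, -1, 6, 1, 3, 5, 4, 9, 0, 16, 1, 4, -3, 6, -2, 4, 7, 3, -8, 0, 0, 0, -5, 6, -7, 5, -1, 3, 1],
  [-2, 0, -2, 0, 1, 2, -1, 2, -4, 3, 2, -4, 0, -3, 4, 2, -1, -1, -4, -3, 6, -1, 3, -3, 4, -1, 3, -3, -1, 6, 1, 3, 5, 4, 9, 0, 16, 1, 4, -3, 6, -2, 4, 7, 3, -8, 0, 0, 0, -5, 6, -7, 5, -1, 3, 1],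
  [0, 0, -1, 0, 0, 0, -1, 0, 0, 0, 4, -2, 0, 0, 3, -1, 1, 3, -7, -6, 3, 0, 2, -4, -2, 3, 1, 0, 1, 3, 4, 4, 9, 9, 9, 3, 6, 1, 6, -1, 4, 1, 1, 13, 2, -3, -1, -1, 2, 2, 7, -10, 10, -3, 5, 1],
  [0, 0, -1, 0, 0, 0, -1, 0, 0, 4, 4, -2, 0, 0, 3, -1, 1, 3, -7, -6, 3, 0, 2, -4, -2, 3, 1, 0, 1, 3, 4, 4, 9, 9, 9, 3, 6, 1, 6, -1, 4, 1, 1, 13, 2, -3, -1, -1, 2, 2, 7, -10, 10, -3, 5, 1],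
  [-1, 0, -1, 0, 1, 1, -1, 1, 0, 0, 3, -3, 3, -6, 0, 5, -3, -7, 3, -2, 3, -3, 8, -3, 1, -5, 3, 0, 4, 3, 10, 2, 8, 5, 10, -2, 6, 3, 9, -1, 2, 0, 3, 13, 5, -7, 1, -1, 12, 4, 14, -3, 9, 4, 4, -2],
  [-1, 0, -1, 0, 1, 1, -1, 1, 0, 0, 3, 1, 3, -6, 0, 5, -3, -7, 3, -2, 3, -3, 8, -3, 1, -5, 3, 0, 4, 3, 10, 2, 8, 5, 10, -2, 6, 3, 9, -1, 2, 0, 3, 13, 5, -7, 1, -1, 12, 4, 14, -3, 9, 4, 4, -2],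
  [0, 0, -1, 0, 1, 1, -1, 0, 0, 1, 2, -4, 4, -4, 3, 2, -2, 0, -7, -2, -1, -1, 4, 3, 0, -2, -1, 7, 7, 3, 5, 3, 4, 3, 5, -1, 0, 0, 1, 6, -1, 1, -1, 9, 4, -3, -7, 2, 5, 1, 7, 1, 7, 4, 3, 6],
  [0, 0, -1, 0, 1, 1, -1, 0, 0, 1, 2, -4, 4, 0, 3, 2, -2, 0, -7, -2, -1, -1, 4, 3, 0, -2, -1, 7, 7, 3, 5, 3, 4, 3, 5, -1, 0, 0, 1, 6, -1, 1, -1, 9, 4, -3, -7, 2, 5, 1, 7, 1, 7, 4, 3, 6],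
  [-1, 0, -1, 0, 0, 0, -1, 1, -1, 2, 0, 2, -2, 1, 3, -5, 4, -6, 5, -4, 3, 0, 4, -4, 3, -2, 5, 1, 2, 1, 9, 7, 6, 2, 9, 1, 11, -3, 11, -1, 2, -1, -2, 10, 4, -2, -2, 1, 6, 8, 13, 5, 13, 0, 5, -2],
  [-1, 0, -1, 0, 0, 0, -1, 1, -1, 2, 0, 2, -2, 1, 3, -1, 4, -6, 5, -4, 3, 0, 4, -4, 3, -2, 5, 1, 2, 1, 9, 7, 6, 2, 9, 1, 11, -3, 11, -1, 2, -1, -2, 10, 4, -2, -2, 1, 6, 8, 13, 5, 13, 0, 5, -2],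
  [-1, 0, -1, 0, 1, 1, -1, 1, 0, 0, 1, -1, 3, -6, 0, 5, -1, -9, 3, -2, 3, -3, 8, -3, 1, -5, 3, -2, 2, 1, 10, 0, 7, 4, 9, -5, 7, 2, 10, -2, 1, -1, 2, 12, 6, -8, 2, 0, 10, 2, 14, -5, 7, 4, 4, -2],
  [-1, 0, -1, 0, 1, 1, -1, 1, 0, 0, 1, -1, 3, -6, 0, 5, -1, -5, 3, -2, 3, -3, 8, -3, 1, -5, 3, -2, 2, 1, 10, 0, 7, 4, 9, -5, 7, 2, 10, -2, 1, -1, 2, 12, 6, -8, 2, 0, 10, 2, 14, -5, 7, 4, 4, -2],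
  [0, 0, -2, 0, 1, 2, -1, 0, -2, 3, 2, -2, -2, 3, 2, -2, 4, -1, 2, -6, 1, 3, 4, -5, 0, -3, 5, -1, -3, -2, 5, 3, 8, 2, 5, 1, 12, -4, 8, 0, 2, -4, -5, 8, 5, -2, -3, 1, -3, 6, 8, 3, 9, 1, 2, 0],
  [0, 0, -2, 0, 1, 2, -1, 0, -2, 3, 2, -2, -2, 3, 2, -2, 4, -1, 2, -2, 1, 3, 4, -5, 0, -3, 5, -1, -3, -2, 5, 3, 8, 2, 5, 1, 12, -4, 8, 0, 2, -4, -5, 8, 5, -2, -3, 1, -3, 6, 8, 3, 9, 1, 2, 0],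
  [0, 0, 0, 0, 0, 1, -1, 0, -3, 1, 2, -4, 2, -5, -1, 6, -4, -3, -1, -3, 1, 0, 4, -2, -3, -5, 2, -1, -1, 2, 6, -2, 11, 6, 10, -6, 10, -1, 8, 0, 2, -3, 1, 10, 5, -6, -2, 1, 2, 3, 9, -5, 6, 6, 3, 2],
  [0, 0, 0, 0, 0, 1, -1, 0, -3, 1, 2, -4, 2, -5, -1, 6, -4, -3, -1, -3, 1, 4, 4, -2, -3, -5, 2, -1, -1, 2, 6, -2, 11, 6, 10, -6, 10, -1, 8, 0, 2, -3, 1, 10, 5, -6, -2, 1, 2, 3, 9, -5, 6, 6, 3, 2],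
  [-1, 0, -1, 0, 0, 0, -1, 1, -1, 2, 0, 2, -2, 1, 1, -3, 4, -6, 5, -4, 3, 0, 6, -6, 3, -2, 5, -1, 0, -1, 9, 5, 5, 1, 8, -2, 12, -4, 12, -2, 1, -2, -3, 9, 5, -3, -1, 2, 4, 6, 13, 3, 11, 0, 5, -2],
  [-1, 0, -1, 0, 0, 0, -1, 1, -1, 2, 0, 2, -2, 1, 1, -3, 4, -6, 5, -4, 3, 0, 6, -2, 3, -2, 5, -1, 0, -1, 9, 5, 5, 1, 8, -2, 12, -4, 12, -2, 1, -2, -3, 9, 5, -3, -1, 2, 4, 6, 13, 3, 11, 0, 5, -2]]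

/-- Some of the parts to be multiplied by one plus i. -/
def splitZ2 : List (List ℤ) := [[-2, 0, -1, 0, 1, 2, -2, 2, -1, 0, 1, -1, -1, -2, -2, 2, 0, -1, 3, 0, 2, -3, 5, 0, 6, -2, -4, 1, 8, 3, 3, 5, 5, 3, 4, 4, 5, 4, -1, -2, 5, 3, 6, 8, -2, -3, 5, -4, 13, -3, 11, 0, 7, 3, 4, -1],
  [-2, 0, -1, 0, 1, 2, -2, 2, -1, 0, 1, -1, -1, -2, -2, 2, 0, -1, 3, 0, 2, -3, 5, 0, 6, 2, -4, 1, 8, 3, 3, 5, 5, 3, 4, 4, 5, 4, -1, -2, 5, 3, 6, 8, -2, -3, 5, -4, 13, -3, 11, 0, 7, 3, 4, -1],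
  [-1, 0, -1, 0, 1, 2, -2, 1, -3, 1, 4, -4, 0, -4, -5, 5, -2, -1, 4, -1, 3, 4, 10, -3, -4, -6, -1, -3, -2, 4, 1, 1, 6, 8, 2, 6, 4, 6, 0, 0, 8, 0, 4, 8, -1, -1, 3, 1, 3, -1, 7, 3, 8, 0, 0, -4],
  [-1, 0, -1, 0, 1, 2, -2, 1, -3, 1, 4, -4, 0, -4, -5, 5, -2, -1, 4, -1, 3, 4, 10, -3, -4, -6, -1, 1, -2, 4, 1, 1, 6, 8, 2, 6, 4, 6, 0, 0, 8, 0, 4, 8, -1, -1, 3, 1, 3, -1, 7, 3, 8, 0, 0, -4],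
  [-2, 0, -2, 0, 2, 2, -2, 2, 0, 0, 3, -1, 1, -5, -4, 4, -1, -5, 8, 0, 3, -1, 10, -4, 0, -6, -2, -2, 5, -1, 7, 1, 4, 4, 5, 7, 7, 7, 2, -2, 7, 2, 1, 10, 0, -3, 3, 0, 11, 2, 14, 5, 9, 2, 3, -6],
  [-2, 0, -2, 0, 2, 2, -2, 2, 0, 0, 3, -1, 1, -5, -4, 4, -1, -5, 8, 0, 3, -1, 10, -4, 0, -6, -2, -2, 5, 3, 7, 1, 4, 4, 5, 7, 7, 7, 2, -2, 7, 2, 1, 10, 0, -3, 3, 0, 11, 2, 14, 5, 9, 2, 3, -6],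
  [-1, 0, -2, 0, 2, 2, -2, 1, 0, 1, 4, -4, 0, -1, -1, 1, 0, 2, -2, 0, 1, -1, 4, 0, 1, -1, -6, 1, 6, 1, 2, -2, 6, 4, 2, 6, 3, 6, -4, -1, 8, 3, 3, 8, -3, -1, 3, -5, 8, -5, 7, -3, 5, 4, 4, 0],
  [-1, 0, -2, 0, 2, 2, -2, 1, 0, 1, 4, -4, 0, -1, -1, 1, 0, 2, -2, 0, 1, -1, 4, 0, 1, -1, -6, 1, 6, 1, 2, 2, 6, 4, 2, 6, 3, 6, -4, -1, 8, 3, 3, 8, -3, -1, 3, -5, 8, -5, 7, -3, 5, 4, 4, 0],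
  [-1, 0, -3, 0, 2, 2, -2, 0, -1, 3, 2, -4, -1, 0, 4, -1, 3, -4, -1, -3, 7, -2, 11, -1, 6, -2, 1, 0, 4, 5, 7, 7, 4, 0, 6, 3, 11, 1, 3, 4, 8, 2, 2, 10, 3, -3, -2, 2, 5, -3, 9, 0, 12, -1, 5, -3],
  [-1, 0, -3, 0, 2, 2, -2, 0, -1, 3, 2, -4, -1, 0, 4, -1, 3, -4, -1, -3, 7, -2, 11, -1, 6, -2, 1, 0, 4, 5, 7, 7, 4, 4, 6, 3, 11, 1, 3, 4, 8, 2, 2, 10, 3, -3, -2, 2, 5, -3, 9, 0, 12, -1, 5, -3],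
  [-1, 0, -1, 0, 1, 1, -2, 0, -2, 1, 4, -4, 1, -2, -3, 3, -1, -4, 4, -2, 3, 1, 9, -2, 1, 0, -4, -4, 4, 5, 8, 0, 7, 6, 13, 0, 9, 6, 3, 2, 8, 3, 8, 12, -1, -3, 3, 2, 10, 0, 8, -8, 9, 2, 6, -7],
  [-1, 0, -1, 0, 1, 1, -2, 0, -2, 1, 4, -4, 1, -2, -3, 3, -1, -4, 4, -2, 3, 1, 9, -2, 1, 0, -4, -4, 4, 5, 8, 0, 7, 6, 13, 4, 9, 6, 3, 2, 8, 3, 8, 12, -1, -3, 3, 2, 10, 0, 8, -8, 9, 2, 6, -7],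
  [-1, 0, -2, 0, 2, 3, -2, 0, -2, 2, 2, -4, -1, 1, 0, 2, 0, -2, 3, 0, 1, 0, 5, -1, 3, -2, -2, 3, 4, 4, 1, 1, 3, 0, 4, 7, 10, 2, -2, 2, 3, -1, 3, 4, -1, -3, -2, 1, 5, 0, 3, 5, 4, 4, 1, -2],
  [-1, 0, -2, 0, 2, 3, -2, 0, -2, 2, 2, -4, -1, 1, 0, 2, 0, -2, 3, 0, 1, 0, 5, -1, 3, -2, -2, 3, 4, 4, 1, 1, 3, 0, 4, 7, 10, 6, -2, 2, 3, -1, 3, 4, -1, -3, -2, 1, 5, 0, 3, 5, 4, 4, 1, -2],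
  [-1, 0, -2, 0, 1, 2, -2, 0, -4, 3, 2, -4, -1, -3, 4, 3, -1, -1, -3, -4, 7, -3, 5, -4, 3, -1, 2, 0, 0, 8, 0, 4, 6, 6, 8, 5, 14, 3, 5, -5, 8, -1, 5, 8, 1, -7, 0, -2, 2, -5, 5, -6, 7, -1, 3, -1],
  [-1, 0, -2, 0, 1, 2, -2, 0, -4, 3, 2, -4, -1, -3, 4, 3, -1, -1, -3, -4, 7, -3, 5, -4, 3, -1, 2, 0, 0, 8, 0, 4, 6, 6, 8, 5, 14, 3, 5, -1, 8, -1, 5, 8, 1, -7, 0, -2, 2, -5, 5, -6, 7, -1, 3, -1],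
  [-1, 0, -2, 0, 2, 2, -1, 2, 1, -1, 3, -3, 2, -7, 1, 6, -3, -1, -2, -2, 4, -5, 11, 0, 0, -3, -4, 6, 8, 7, 8, 4, 3, 6, 5, 5, 2, 6, 1, 2, 5, 2, 4, 12, 3, -6, -1, 1, 12, -4, 15, 1, 10, 2, 4, 2],
  [-1, 0, -2, 0, 2, 2, -1, 2, 1, -1, 3, -3, 2, -7, 1, 6, -3, -1, -2, -2, 4, -5, 11, 0, 0, -3, -4, 6, 8, 7, 8, 4, 3, 6, 5, 5, 2, 6, 1, 2, 5, 6, 4, 12, 3, -6, -1, 1, 12, -4, 15, 1, 10, 2, 4, 2],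
  [-2, 0, -1, 0, 1, 2, -3, 1, -3, 1, 3, -5, 2, -7, -1, 6, -5, 2, -7, -2, 1, -1, 8, 0, -3, -4, -4, 6, 6, 7, 5, 3, 7, 8, 6, 4, 3, 5, -1, 4, 3, 1, 6, 7, 3, -5, -4, 1, 2, -3, 10, 1, 7, 2, 1, 6],
  [-2, 0, -1, 0, 1, 2, -3, 1, -3, 1, 3, -5, 2, -7, -1, 6, -5, 2, -7, -2, 1, -1, 8, 0, -3, -4, -4, 6, 6, 7, 5, 3, 7, 8, 6, 4, 3, 5, -1, 4, 3, 1, 6, 11, 3, -5, -4, 1, 2, -3, 10, 1, 7, 2, 1, 6],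
  [-2, 0, -2, 0, 1, 1, -3, 1, -3, 3, 4, -2, -1, -3, -2, 0, 1, -1, 0, -4, 4, 6, 7, -3, -3, -5, 0, 0, -3, 5, 4, 4, 8, 10, 8, 4, 10, 2, 6, -2, 9, -1, 0, 14, 4, -4, -1, 3, 2, 2, 14, 4, 15, -1, 5, 1],
  [-2, 0, -2, 0, 1, 1, -3, 1, -3, 3, 4, -2, -1, -3, -2, 0, 1, -1, 0, -4, 4, 6, 7, -3, -3, -5, 0, 0, -3, 5, 4, 4, 8, 10, 8, 4, 10, 2, 6, -2, 9, -1, 0, 14, 4, 0, -1, 3, 2, 2, 14, 4, 15, -1, 5, 1],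
  [-1, 0, -3, 0, 2, 3, -1, 2, -1, 1, 3, -1, -2, -2, 0, 2, 3, -2, 5, -4, 6, -1, 11, -8, 0, -4, 2, 0, 0, 4, 8, 6, 8, 6, 6, 10, 13, 3, 7, -3, 7, 0, 1, 12, 3, -4, 4, -3, 6, 3, 16, 5, 14, -1, 3, -4],
  [-1, 0, -3, 0, 2, 3, -1, 2, -1, 1, 3, -1, -2, -2, 0, 2, 3, -2, 5, -4, 6, -1, 11, -8, 0, -4, 2, 0, 0, 4, 8, 6, 8, 6, 6, 10, 13, 3, 7, -3, 7, 0, 1, 12, 3, -4, 4, 1, 6, 3, 16, 5, 14, -1, 3, -4],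
  [0, 0, -1, 0, 1, 2, 0, 0, -1, 0, 0, -2, 2, -5, 2, 6, -4, 1, -5, -2, 1, -2, 4, -1, -2, -2, 2, 1, -1, 4, 2, 0, 6, 6, 4, -2, 2, 1, 3, -2, 0, -2, 2, 8, 4, -7, 0, -1, 5, -3, 6, -5, 3, 3, 1, 4],
  [0, 0, -1, 0, 1, 2, 0, 0, -1, 0, 0, -2, 2, -5, 2, 6, -4, 1, -5, -2, 1, -2, 4, -1, -2, -2, 2, 1, -1, 4, 2, 0, 6, 6, 4, -2, 2, 1, 3, -2, 0, -2, 2, 8, 4, -7, 0, -1, 5, 1, 6, -5, 3, 3, 1, 4],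
  [0, 0, 0, 0, 0, 0, 0, 0, 0, 0, -1, -1, 1, -3, 0, 2, -1, -3, -2, -2, -1, -3, 6, 0, 0, -2, 0, 2, 5, 1, 11, 1, 5, 1, 6, -4, 4, -2, 5, 5, 0, 1, 0, 5, 5, -2, -4, 1, 1, 2, 10, -3, 5, 4, 3, 2],
  [0, 0, 0, 0, 0, 0, 0, 0, 0, 0, -1, -1, 1, -3, 0, 2, -1, -3, -2, -2, -1, -3, 6, 0, 0, -2, 0, 2, 5, 1, 11, 1, 5, 1, 6, -4, 4, -2, 5, 5, 0, 1, 0, 5, 5, -2, -4, 1, 1, 2, 10, 1, 5, 4, 3, 2],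
  [-1, 0, -2, 0, 1, 1, -2, -1, -2, 4, 1, -1, -1, 4, 5, -4, 3, -3, -2, -4, 2, -1, 1, -4, 3, 0, 4, 2, 1, 0, 6, 2, 4, -1, 8, 2, 12, -2, 7, 0, 0, -2, -3, 6, 5, -5, -4, 1, -1, 2, 8, -1, 6, -1, 3, 0],
  [-1, 0, -2, 0, 1, 1, -2, -1, -2, 4, 1, -1, -1, 4, 5, -4, 3, -3, -2, -4, 2, -1, 1, -4, 3, 0, 4, 2, 1, 0, 6, 2, 4, -1, 8, 2, 12, -2, 7, 0, 0, -2, -3, 6, 5, -5, -4, 1, -1, 2, 8, -1, 6, 3, 3, 0],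
  [-1, 0, -1, 0, 0, 1, -2, -1, -4, 3, 2, -2, 0, 2, 2, -1, 2, -3, -1, -6, 3, 1, 6, -6, 1, 2, 4, -5, 0, 2, 12, 4, 10, 5, 14, -2, 15, -2, 11, 1, 3, 0, 3, 13, 6, -6, 1, 2, 2, 4, 12, -11, 9, -1, 7, -6],
  [-1, 0, -1, 0, 0, 1, -2, -1, -4, 3, 2, -2, 0, 2, 2, -1, 2, -3, -1, -6, 3, 1, 6, -6, 1, 2, 4, -5, 0, 2, 12, 4, 10, 5, 14, -2, 15, -2, 11, 1, 3, 0, 3, 13, 6, -6, 1, 2, 2, 4, 12, -11, 9, -1, 7, -2]]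

/-- The parts to be multiplied by one plus i. -/
def splitZ : List (List ℤ) := splitZ0 ++ (splitZ1 ++ splitZ2)

end CfsgLib.Sporadic.RuLattice
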