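import Cfsg.Agent.Lib.Sporadic.RuLattice.Auto
import Cfsg.Agent.Lib.Sporadic.RuLattice.Bound
import Cfsg.Agent.Lib.Sporadic.Ru.Simplicity

/-! The automorphism group of the lattice maps onto the simple matrix group of order 145926144000
with kernel the four unit scalars, which is its centre. -/

set_option autoImplicit false
set_option maxRecDepth 100000

namespace CfsgLib.Sporadic.RuLattice

open Cfsg.Spor CfsgLib.Recognition.RuLattice CfsgLib.Sporadic.Ru

/-- The matrix of an automorphism on the reduction. -/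
def redMat (f : fourRu) : Matrix (Fin 28) (Fin 28) (ZMod 2) :=
  Matrix.of fun i j => piMap (f.1 (uvec j)) i

theorem piMap_apply (f : fourRu) (v : ruLattice) : piMap (f.1 v) = (redMat f).mulVec (piMap v) := by
  obtain ⟨c, w, rfl⟩ := exists_split' v
  have hw : piMap (w + ruI w) = 0 := by
    rw [map_add, piMap_ruI]
    funext i
    exact CharTwo.add_self_eq_zero _
  have hw' : piMap (f.1 (w + ruI w)) = 0 := by
    rw [f.2.1, f.2.2.1, map_add, piMap_ruI]
    funext i
    exact CharTwo.add_self_eq_zero _
  have hf : f.1 ((∑ j, c j • uvec j) + (w + ruI w)) =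
      (∑ j, c j • f.1 (uvec j)) + f.1 (w + ruI w) := by
    rw [f.2.1]
    refine congrArg (· + _) ?_
    show addHom f (∑ j, c j • uvec j) = _
    rw [map_sum]
    exact Finset.sum_congr rfl fun j _ => map_zsmul (addHom f) (c j) (uvec j)
  rw [hf, map_add piMap, map_add piMap (∑ j, c j • uvec j), hw, hw', add_zero, add_zero,
    map_sum piMap, map_sum piMap]
  simp only [map_zsmul, piMap_uvec]
  rw [Matrix.mulVec_sum]
  refine Finset.sum_congr rfl fun j _ => ?_
  funext i
  rw [Matrix.mulVec_smul, Pi.smul_apply, Pi.smul_apply, Matrix.mulVec_single_one, Matrix.col_apply]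
  rfl

theorem redMat_one : redMat 1 = 1 := by
  ext i j
  show piMap (uvec j) i = (1 : Matrix (Fin 28) (Fin 28) (ZMod 2)) i j
  rw [piMap_uvec, Matrix.one_apply, Pi.single_apply]

theorem redMat_mul (f g : fourRu) : redMat (f * g) = redMat f * redMat g := by
  ext i j
  show piMap (f.1 (g.1 (uvec j))) i = _
  rw [piMap_apply, Matrix.mul_apply]
  rfl

/-- The reduction, into matrices. -/
def redHom : fourRu →* Matrix (Fin 28) (Fin 28) (ZMod 2) where
  toFun := redMat
  map_one' := redMat_one
  map_mul' := redMat_mul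

/-- The reduction, into the general linear group. -/
def toGL : fourRu →* GL28 := redHom.toHomUnits

theorem emb_toGL (f : fourRu) : emb (toGL f) = redMat f := rfl

theorem liftAut_code (a : Fin 2) : emb (toGL (liftAut a)) = dec (g0Gens.getD a.val 0) := by
  ext i j
  rw [emb_toGL, dec, decF2, Matrix.of_apply]
  exact piMap_liftAut a i j

theorem g0_length : g0Gens.length = 2 := rfl

theorem grp_le_range : grp g0Gens ≤ toGL.range := by
  refine genSet_closure_le emb_injective fun c hc => ?_
  obtain ⟨n, hn, rfl⟩ := List.getElem_of_mem hc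
  refine ⟨toGL (liftAut ⟨n, g0_length ▸ hn⟩), ⟨_, rfl⟩, ?_⟩
  rw [liftAut_code, List.getD_eq_getElem _ _ hn]

theorem gI_four : gI * (gI * (gI * gI)) = 1 := by decide +kernel

theorem ruI_four (v : ruLattice) : ruI (ruI (ruI (ruI v))) = v := by
  refine Subtype.ext ?_
  show gI • gI • gI • gI • (v : RuVec) = (v : RuVec)
  rw [smul_smul, smul_smul, smul_smul, mul_assoc, mul_assoc, gI_four, one_smul]

/-- Multiplication by i, as a permutation. -/
def iPerm : Equiv.Perm ruLattice where
  toFun := ruI
  invFun v := ruI (ruI (ruI v))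
  left_inv := ruI_four
  right_inv := ruI_four

theorem iPerm_mem : iPerm ∈ fourRu := by
  refine ⟨fun v w => Subtype.ext (smul_add gI (v : RuVec) (w : RuVec)), fun v => rfl, fun v => ?_⟩
  show ruNorm (gI • (v : RuVec)) = ruNorm (v : RuVec)
  refine Finset.sum_congr rfl fun p _ => ?_
  rw [Pi.smul_apply, smul_eq_mul, Zsqrtd.norm_mul, show Zsqrtd.norm gI = 1 from rfl, one_mul]

/-- The scalar i. -/
def scalI : fourRu := ⟨iPerm, iPerm_mem⟩

theorem scalI_central : scalI ∈ Subgroup.center fourRu :=
  Subgroup.mem_center_iff.2 fun g => Subtype.ext (Equiv.ext fun v => g.2.2.1 v)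

theorem scalI_ker : scalI ∈ toGL.ker := by
  refine MonoidHom.mem_ker.2 (emb_injective ?_)
  rw [map_one, emb_toGL]
  ext i j
  show piMap (ruI (uvec j)) i = (1 : Matrix (Fin 28) (Fin 28) (ZMod 2)) i j
  rw [piMap_ruI, piMap_uvec, Matrix.one_apply, Pi.single_apply]

theorem scalI_order : orderOf scalI = 4 := by
  refine orderOf_eq_prime_pow (p := 2) (n := 1) ?_ ?_
  · intro h
    have h1 := congrArg (fun f : fourRu => fl (f.1 (lvec (Pi.single 0 4) (four_span 0)))) h
    have h2 : fl (ruI (ruI (lvec (Pi.single 0 4) (four_span 0)))) =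
        fl (lvec (Pi.single 0 4) (four_span 0)) := h1
    rw [fl_ruI, fl_ruI, fl_apply, flat_lvec] at h2
    exact absurd (congrFun h2 0) (by decide +kernel)
  · exact Subtype.ext (Equiv.ext fun v => ruI_four v)

theorem card_fourRu_pos : Finite fourRu ∧ 0 < Nat.card fourRu := by
  have := finite_and_bound.1
  exact ⟨this, Nat.card_pos⟩

theorem ker_range :
    Nat.card toGL.ker = 4 ∧ toGL.range = grp g0Gens ∧ toGL.ker = Subgroup.zpowers scalI := by
  have hfin := finite_and_bound.1
  have hbound := finite_and_bound.2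
  have hmul : Nat.card toGL.ker * Nat.card toGL.range = Nat.card fourRu := by
    rw [← Subgroup.index_ker]
    exact toGL.ker.card_mul_index
  have hk : 4 ≤ Nat.card toGL.ker := by
    rw [← scalI_order, ← Nat.card_zpowers]
    exact Subgroup.card_le_of_le ((Subgroup.zpowers_le).2 scalI_ker)
  have hr : 145926144000 ≤ Nat.card toGL.range :=
    card_grp_g0 ▸ Subgroup.card_le_of_le grp_le_range
  have hk4 : Nat.card toGL.ker = 4 := by
    by_contra hne
    have : 5 * 145926144000 ≤ Nat.card toGL.ker * Nat.card toGL.range :=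
      Nat.mul_le_mul (by omega) hr
    omega
  have hr' : Nat.card toGL.range ≤ Nat.card (grp g0Gens) := by
    rw [card_grp_g0]
    rw [hk4] at hmul
    omega
  refine ⟨hk4, (Subgroup.eq_of_le_of_card_ge grp_le_range hr').symm,
    (Subgroup.eq_of_le_of_card_ge ((Subgroup.zpowers_le).2 scalI_ker) ?_).symm⟩
  rw [hk4, Nat.card_zpowers, scalI_order]

theorem center_g0 : Subgroup.center (grp g0Gens) = ⊥ := by
  have := isSimple_g0
  rcases IsSimpleGroup.eq_bot_or_eq_top_of_normal (Subgroup.center (grp g0Gens)) inferInstance with h | h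
  · exact h
  exfalso
  letI : CommGroup (grp g0Gens) := { (inferInstance : Group (grp g0Gens)) with
    mul_comm := fun a b => (Subgroup.mem_center_iff.1 (h ▸ Subgroup.mem_top b : b ∈ Subgroup.center _) a) }
  have hp : (Nat.card (grp g0Gens)).Prime := IsSimpleGroup.prime_card
  rw [card_grp_g0] at hp
  norm_num at hp

theorem center_eq_ker : Subgroup.center fourRu = toGL.ker := by
  obtain ⟨-, hrange, hker⟩ := ker_range
  refine le_antisymm (fun z hz => ?_) (by rw [hker]; exact (Subgroup.zpowers_le).2 scalI_central)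
  have hmem : toGL z ∈ grp g0Gens := by rw [← hrange]; exact ⟨z, rfl⟩
  have hc : (⟨toGL z, hmem⟩ : grp g0Gens) ∈ Subgroup.center (grp g0Gens) := by
    refine Subgroup.mem_center_iff.2 fun g => Subtype.ext ?_
    obtain ⟨f, hf⟩ : g.1 ∈ toGL.range := by rw [hrange]; exact g.2
    show g.1 * toGL z = toGL z * g.1
    rw [← hf, ← map_mul, ← map_mul, Subgroup.mem_center_iff.1 hz f]
  rw [center_g0, Subgroup.mem_bot] at hc
  exact MonoidHom.mem_ker.2 (congrArg Subtype.val hc)

theorem isSimple_of_equiv {A B : Type*} [Group A] [Group B] (e : A ≃* B) (h : IsSimpleGroup B) :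
    IsSimpleGroup A :=
  MulEquiv.isSimpleGroup e

/-- The quotient by the centre is the matrix group. -/
noncomputable def ruEquiv : Cfsg.Spor.Ru ≃* grp g0Gens :=
  (QuotientGroup.quotientMulEquivOfEq center_eq_ker).trans
    ((QuotientGroup.quotientKerEquivRange toGL).trans (MulEquiv.subgroupCongr ker_range.2.1))

theorem card_center : Nat.card (Subgroup.center fourRu) = 4 := by
  rw [center_eq_ker]
  exact ker_range.1

theorem card_Ru : Nat.card Cfsg.Spor.Ru = 145926144000 := by
  rw [Nat.card_congr ruEquiv.toEquiv, card_grp_g0]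

theorem isSimple_Ru : IsSimpleGroup Cfsg.Spor.Ru := by
  refine isSimple_of_equiv (A := Cfsg.Spor.Ru) (B := ↥(grp g0Gens)) ruEquiv ?_
  exact isSimple_g0

end CfsgLib.Sporadic.RuLattice
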