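import Cfsg.Agent.Lib.Sporadic.RuLattice.Syndrome
import Cfsg.Agent.Lib.Sporadic.RuLattice.DataAut
import Cfsg.Agent.Lib.Sporadic.RuLattice.DataImg

/-! The images of the spanning vectors lie in the lattice. -/

set_option autoImplicit false
set_option maxRecDepth 100000
set_option Elab.async false

namespace CfsgLib.Sporadic.RuLattice

open CfsgLib.Recognition.RuLattice

/-- The image of a spanning vector. -/
def imgV (m : Fin 4) (k : Fin 96) : Fin 56 → ℤ := decV ((autImgs.getD m.val []).getD k.val 0)

/-- The certificate for an image. -/
noncomputable def imgCertAt (m k : ℕ) : Bool :=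
  cert ((autCoef.getD m []).getD k 0) (decV ((autImgs.getD m []).getD k 0))

theorem imgCert0_0 : allFrom 0 32 (imgCertAt 0) = true := by decide +kernel

theorem imgCert0_1 : allFrom 32 32 (imgCertAt 0) = true := by decide +kernel

theorem imgCert0_2 : allFrom 64 32 (imgCertAt 0) = true := by decide +kernel

theorem imgCert1_0 : allFrom 0 32 (imgCertAt 1) = true := by decide +kernel

theorem imgCert1_1 : allFrom 32 32 (imgCertAt 1) = true := by decide +kernel

theorem imgCert1_2 : allFrom 64 32 (imgCertAt 1) = true := by decide +kernel

end CfsgLib.Sporadic.RuLattice
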