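import Cfsg.Agent.Lib.Recognition.RuLattice.Minimum
import Cfsg.Agent.Lib.Sporadic.RuLattice.DataBasis
import Cfsg.Agent.Lib.Sporadic.RuLattice.Search

/-! The lattice in integer coordinates is exactly the span of the generators modulo 4 and
four times the unit vectors. -/

set_option autoImplicit false
set_option maxRecDepth 100000
set_option Elab.async false

namespace CfsgLib.Sporadic.RuLattice

open Cfsg.Spor CfsgLib.Recognition.RuLattice

theorem flat_unflat (x : Fin 56 → ℤ) : flat (unflat x) = x := by
  funext k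
  simp only [flat, unflat, pos]
  split_ifs with h
  · exact congrArg x (Fin.ext (by simp only [Fin.val_zero]; omega))
  · exact congrArg x (Fin.ext (by simp only [Fin.val_one]; omega))

/-- The integer coordinates, as an additive map. -/
def flatHom : RuVec →+ (Fin 56 → ℤ) := AddMonoidHom.mk' flat flat_add

theorem flatHom_apply (v : RuVec) : flatHom v = flat v := rfl

/-- The lattice in integer coordinates. -/
def image : AddSubgroup (Fin 56 → ℤ) := ruLattice.map flatHom

theorem table_mem_lattice {v : RuVec} (hv : v ∈ ruTable) : v ∈ ruLattice := by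
  rw [ruLattice, AddSubgroup.mem_sInf]
  exact fun L hL => hL.1 v hv

theorem closed_lattice {v : RuVec} (hv : v ∈ ruLattice) : gI • v ∈ ruLattice ∧ ruRj v ∈ ruLattice ∧
    ruRk v ∈ ruLattice ∧ ruSign v ∈ ruLattice ∧ ruShift v ∈ ruLattice := by
  rw [ruLattice, AddSubgroup.mem_sInf] at hv
  refine ⟨?_, ?_, ?_, ?_, ?_⟩ <;> rw [ruLattice, AddSubgroup.mem_sInf] <;> intro L hL
  · exact (hL.2 v (hv L hL)).1
  · exact (hL.2 v (hv L hL)).2.1
  · exact (hL.2 v (hv L hL)).2.2.1
  · exact (hL.2 v (hv L hL)).2.2.2.1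
  · exact (hL.2 v (hv L hL)).2.2.2.2

theorem sgn_length : sgnT.length = 5 := by decide +kernel

theorem act_image (m : ℕ) {x : Fin 56 → ℤ} (hx : x ∈ image) : act m x ∈ image := by
  rcases Nat.lt_or_ge m 5 with h | h
  · obtain ⟨v, hv, rfl⟩ := AddSubgroup.mem_map.1 hx
    obtain ⟨e0, e1, e2, e3, e4⟩ := flat_maps v
    obtain ⟨c0, c1, c2, c3, c4⟩ := closed_lattice hv
    rw [flatHom_apply]
    interval_cases m
    · exact ⟨_, c0, e0⟩
    · exact ⟨_, c1, e1⟩
    · exact ⟨_, c2, e2⟩
    · exact ⟨_, c3, e3⟩
    · exact ⟨_, c4, e4⟩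
  · rw [show act m x = 0 from funext fun k => by
      rw [act, List.getD_eq_default sgnT _ (sgn_length ▸ h)]
      simp]
    exact zero_mem _

/-- A table vector moved by a word. -/
def moved (w : List ℕ) (t : ℕ) : Fin 56 → ℤ := w.foldr act (flat (ruTable.getD t 0))

theorem moved_mem (w : List ℕ) (t : ℕ) : moved w t ∈ image := by
  induction w with
  | nil =>
    rcases Nat.lt_or_ge t ruTable.length with h | h
    · refine ⟨_, table_mem_lattice ?_, rfl⟩
      rw [List.getD_eq_getElem _ _ h]
      exact List.getElem_mem h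
    · show flat (ruTable.getD t 0) ∈ image
      rw [List.getD_eq_default _ _ h, flat_zero]
      exact zero_mem _
  | cons m w ih => exact act_image m ih

theorem four_moved : ∀ i k : Fin 56,
    moved (fourCert.getD i.val []) 0 k = if k = i then 4 else 0 := by
  decide +kernel

theorem four_image (i : Fin 56) : (Pi.single i (4 : ℤ) : Fin 56 → ℤ) ∈ image := by
  rw [show (Pi.single i (4 : ℤ) : Fin 56 → ℤ) = moved (fourCert.getD i.val []) 0 from
    funext fun k => by rw [four_moved i k, Pi.single_apply]]
  exact moved_mem _ _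

theorem gen_check : ∀ k : Fin 40, ∀ i : Fin 56,
    (gen k i - ((genCert.getD k.val []).map fun t => (t.1 : ℤ) * moved t.2.1 t.2.2 i).sum) % 4 = 0 := by
  decide +kernel

theorem image_of_mod_four {x y : Fin 56 → ℤ} (hy : y ∈ image) (h : ∀ i, (x i - y i) % 4 = 0) :
    x ∈ image := by
  have e : x = y + ∑ i, ((x i - y i) / 4) • Pi.single i (4 : ℤ) := by
    funext j
    rw [Pi.add_apply, Finset.sum_apply, Finset.sum_eq_single j]
    · simp only [Pi.smul_apply, Pi.single_eq_same, smul_eq_mul]
      have := h j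
      omega
    · intro b _ hb
      simp [Pi.single_eq_of_ne (Ne.symm hb)]
    · simp
  rw [e]
  exact add_mem hy (sum_mem fun i _ => zsmul_mem (four_image i) _)

theorem gen_image (k : Fin 40) : gen k ∈ image := by
  refine image_of_mod_four (y := ((genCert.getD k.val []).map fun t =>
    (t.1 : ℤ) • moved t.2.1 t.2.2).sum) (list_sum_mem fun y hy => ?_) fun i => ?_
  · obtain ⟨t, -, rfl⟩ := List.mem_map.1 hy
    exact zsmul_mem (moved_mem _ _) _
  · have hs : ∀ l : List (ℕ × List ℕ × ℕ), ((l.map fun t => (t.1 : ℤ) • moved t.2.1 t.2.2).sum) i =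
        (l.map fun t => (t.1 : ℤ) * moved t.2.1 t.2.2 i).sum := by
      intro l
      induction l with
      | nil => rfl
      | cons a l ih =>
        rw [List.map_cons, List.sum_cons, List.map_cons, List.sum_cons, Pi.add_apply, ih]
        rfl
    rw [hs]
    exact gen_check k i

theorem image_eq_span : image = span := by
  refine le_antisymm ?_ ((AddSubgroup.closure_le _).2 ?_)
  · rintro x ⟨v, hv, rfl⟩
    exact flat_mem hv
  · rintro x (⟨k, rfl⟩ | ⟨i, rfl⟩)
    · exact gen_image k
    · exact four_image i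

theorem unflat_mem {x : Fin 56 → ℤ} (hx : x ∈ span) : unflat x ∈ ruLattice := by
  rw [← image_eq_span] at hx
  obtain ⟨v, hv, rfl⟩ := AddSubgroup.mem_map.1 hx
  rwa [flatHom_apply, unflat_flat]

theorem four_span (i : Fin 56) : (Pi.single i (4 : ℤ) : Fin 56 → ℤ) ∈ span :=
  image_eq_span ▸ four_image i

/-- The lattice vector with given coordinates. -/
def lvec (x : Fin 56 → ℤ) (hx : x ∈ span) : ruLattice := ⟨unflat x, unflat_mem hx⟩

theorem flat_lvec (x : Fin 56 → ℤ) (hx : x ∈ span) : flat (lvec x hx : RuVec) = x := flat_unflat x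

theorem lat_ext {v w : ruLattice} (h : flat (v : RuVec) = flat (w : RuVec)) : v = w :=
  Subtype.ext (flat_injective h)

theorem flat_ruI (v : ruLattice) : flat (ruI v : RuVec) = act 0 (flat (v : RuVec)) := (flat_maps v).1

end CfsgLib.Sporadic.RuLattice
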