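import Cfsg.Agent.Lib.Sporadic.RuLattice.Syndrome
import Cfsg.Agent.Lib.Sporadic.RuLattice.DataBound
import Cfsg.Agent.Lib.Sporadic.RuLattice.DataForms

/-! Profiles of short vectors with respect to some linear forms. -/

set_option autoImplicit false
set_option maxRecDepth 100000

namespace CfsgLib.Sporadic.RuLattice

open CfsgLib.Recognition.RuLattice

/-- The sum of the digits of a key at some positions. -/
noncomputable def digSum (c : ℕ) (L : List ℕ) : ℕ :=
  List.rec 0 (fun p _ ih => Nat.add (Nat.mod (Nat.shiftRight c (Nat.mul 4 p)) 16) ih) L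

/-- The value of a form at a key. -/
noncomputable def formVal (c : ℕ) (f : List ℕ × List ℕ) : ℕ :=
  Nat.sub (Nat.add (digSum c f.1) 1024) (digSum c f.2)

/-- All forms take the listed values at a key. -/
noncomputable def preTest (l : List ((List ℕ × List ℕ) × ℕ)) (c : ℕ) : Bool :=
  List.rec true (fun ft _ ih => bif Nat.beq (formVal c ft.1) ft.2 then ih else false) l

theorem preTest_eq_true {c : ℕ} : ∀ {l : List ((List ℕ × List ℕ) × ℕ)},
    (∀ ft ∈ l, formVal c ft.1 = ft.2) → preTest l c = true
  | [], _ => rfl
  | ft :: l, h => by
    show (bif Nat.beq (formVal c ft.1) ft.2 then preTest l c else false) = true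
    rw [h ft List.mem_cons_self, show Nat.beq ft.2 ft.2 = true from Nat.beq_refl ft.2, cond_true]
    exact preTest_eq_true fun g hg => h g (List.mem_cons_of_mem _ hg)

/-- The leaves of a trie. -/
def leaves : Tr → List ℕ
  | .leaf v => [v]
  | .node l r => leaves l ++ leaves r

theorem get_mem_leaves : ∀ (T : Tr) (i : ℕ), T.get i ∈ leaves T
  | .leaf v, i => List.mem_singleton.2 rfl
  | .node l r, i => by
    show (bif i % 2 == 0 then l.get (i / 2) else r.get (i / 2)) ∈ leaves l ++ leaves r
    cases i % 2 == 0
    · exact List.mem_append_right _ (get_mem_leaves r _)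
    · exact List.mem_append_left _ (get_mem_leaves l _)

/-- The number of leaves with a property. -/
noncomputable def countL (p : ℕ → Bool) (T : Tr) : ℕ :=
  Tr.rec (fun v => bif p v then 1 else 0) (fun _ _ a b => Nat.add a b) T

theorem countL_eq (p : ℕ → Bool) : ∀ T : Tr, countL p T = ((leaves T).filter p).length
  | .leaf v => by
    show (bif p v then 1 else 0) = ([v].filter p).length
    cases h : p v <;> simp [h]
  | .node l r => by
    show countL p l + countL p r = ((leaves l ++ leaves r).filter p).length
    rw [countL_eq p l, countL_eq p r, List.filter_append, List.length_append]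

end CfsgLib.Sporadic.RuLattice
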