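import Cfsg.Agent.Lib.Sporadic.RuLattice.ReduceChecks

/-! Reduction of the lattice modulo one plus i, onto a space of dimension 28 over `ZMod 2`. -/

set_option autoImplicit false
set_option maxRecDepth 100000
set_option Elab.async false

namespace CfsgLib.Sporadic.RuLattice

open Cfsg.Spor CfsgLib.Recognition.RuLattice

/-- The reduction of an integer vector. -/
def pz (x : Fin 56 → ℤ) : Fin 28 → ZMod 2 := fun j => ((dot x (piV j) / 4 : ℤ) : ZMod 2)

theorem pz_add {x : Fin 56 → ℤ} (hx : x ∈ span) (y : Fin 56 → ℤ) : pz (x + y) = pz x + pz y := by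
  funext j
  have h := dot_mem hx (mem_span_of_cert (pi_cert j))
  rw [Pi.add_apply, pz, pz, pz, dot_add, Int.add_ediv_of_dvd_left h, Int.cast_add]

theorem pz_zero : pz 0 = 0 := funext fun j => by simp [pz, dot]

theorem pz_neg {x : Fin 56 → ℤ} (hx : x ∈ span) : pz (-x) = -pz x := by
  have h := pz_add hx (-x)
  rw [add_neg_cancel, pz_zero] at h
  exact (neg_eq_of_add_eq_zero_right h.symm).symm

theorem pz_act {x : Fin 56 → ℤ} (hx : x ∈ span) : pz (act 0 x) = pz x := by
  have cast2 : ∀ a b : ℤ, a % 2 = b % 2 → ((a : ZMod 2) = b) := fun a b h =>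
    (ZMod.intCast_eq_intCast_iff' a b 2).2 h
  induction hx using AddSubgroup.closure_induction with
  | mem u hu =>
    funext j
    refine cast2 _ _ ?_
    rcases hu with ⟨k, rfl⟩ | ⟨i, rfl⟩
    · rw [dot_eq_list, dot_eq_list]; exact pz_act_gen k j
    · rw [dot_eq_list, dot_eq_list]; exact pz_act_four i j
  | zero => rw [show act 0 0 = (0 : Fin 56 → ℤ) from funext fun k => by simp [act]]
  | add a b ha hb iha ihb =>
    have hm : act 0 a ∈ span := act_mem 0 ha
    rw [act_add, pz_add hm, pz_add ha, iha, ihb]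
  | neg a ha iha =>
    have hm : act 0 a ∈ span := act_mem 0 ha
    rw [show act 0 (-a) = -act 0 a from funext fun k => by simp [act]]
    rw [pz_neg ha, pz_neg hm, iha]

/-- The reduction on lattice vectors. -/
def piMap : ruLattice →+ (Fin 28 → ZMod 2) :=
  AddMonoidHom.mk' (fun v => pz (flat (v : RuVec))) fun a b => by
    show pz (flat ((a : RuVec) + (b : RuVec))) = _
    rw [flat_add, pz_add (flat_mem a.2)]

/-- The lifted basis in the lattice. -/
def uvec (j : Fin 28) : ruLattice := lvec (uV j) (mem_span_of_cert (u_cert j))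

theorem piMap_ruI (v : ruLattice) : piMap (ruI v) = piMap v := by
  show pz (flat (ruI v : RuVec)) = pz (flat (v : RuVec))
  rw [flat_ruI, pz_act (flat_mem v.2)]

theorem piMap_uvec (j : Fin 28) : piMap (uvec j) = Pi.single j 1 := by
  show pz (flat (uvec j : RuVec)) = _
  rw [uvec, flat_lvec]
  funext i
  rw [pz, dot_eq_list, ← Int.cast_one (R := ZMod 2), Pi.single_apply]
  have h := pz_u_check i j
  by_cases e : i = j
  · rw [if_pos e] at h ⊢
    exact (ZMod.intCast_eq_intCast_iff' _ _ 2).2 h
  · rw [if_neg e] at h ⊢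
    rw [← Int.cast_zero (R := ZMod 2)]
    exact (ZMod.intCast_eq_intCast_iff' _ _ 2).2 h

theorem exists_spanVec {x : Fin 56 → ℤ}
    (h : x ∈ Set.range gen ∪ Set.range fun i : Fin 56 => Pi.single i (4 : ℤ)) :
    ∃ k : Fin 96, spanVec k = x := by
  rcases h with ⟨k, rfl⟩ | ⟨i, rfl⟩
  · exact ⟨⟨k.val, by omega⟩, by rw [spanVec, dif_pos k.isLt]⟩
  · refine ⟨⟨40 + i.val, by omega⟩, ?_⟩
    rw [spanVec, dif_neg (by simp only; omega)]
    funext q
    show (if q.val = 40 + i.val - 40 then (4 : ℤ) else 0) = (Pi.single i 4 : Fin 56 → ℤ) q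
    rw [Pi.single_apply]
    exact if_congr ⟨fun h => Fin.ext (by omega), fun h => by subst h; omega⟩ rfl rfl

theorem exists_split {x : Fin 56 → ℤ} (hx : x ∈ span) :
    ∃ (c : Fin 28 → ℤ) (z : Fin 56 → ℤ), z ∈ span ∧ x = (∑ j, c j • uV j) + (z + act 0 z) := by
  induction hx using AddSubgroup.closure_induction with
  | mem u hu =>
    obtain ⟨k, rfl⟩ := exists_spanVec hu
    refine ⟨fun j => if (splitBits.getD k.val 0).testBit j.val then 1 else 0,
      ofL (splitZ.getD k.val []), mem_span_of_cert (split_cert k), funext fun q => ?_⟩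
    rw [Pi.add_apply, Pi.add_apply, Finset.sum_apply, split_check k q,
      ← List.sum_toFinset _ (List.nodup_finRange 28), List.toFinset_finRange]
    refine congrArg (· + _) (Finset.sum_congr rfl fun j _ => ?_)
    simp only [Pi.smul_apply, smul_eq_mul]
    by_cases h : (splitBits.getD k.val 0).testBit j.val = true
    · rw [if_pos h, if_pos h, one_mul]
    · rw [if_neg h, if_neg h, zero_mul]
  | zero =>
    exact ⟨0, 0, zero_mem _, by rw [show act 0 0 = (0 : Fin 56 → ℤ) from funext fun k => by simp [act]]; simp⟩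
  | add a b _ _ iha ihb =>
    obtain ⟨c, z, hz, rfl⟩ := iha
    obtain ⟨c', z', hz', rfl⟩ := ihb
    refine ⟨c + c', z + z', add_mem hz hz', ?_⟩
    rw [act_add]
    simp only [Pi.add_apply, add_smul, Finset.sum_add_distrib]
    abel
  | neg a _ iha =>
    obtain ⟨c, z, hz, rfl⟩ := iha
    refine ⟨-c, -z, neg_mem hz, ?_⟩
    rw [show act 0 (-z) = -act 0 z from funext fun k => by simp [act]]
    simp only [Pi.neg_apply, neg_smul, Finset.sum_neg_distrib]
    abel

theorem exists_split' (v : ruLattice) :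
    ∃ (c : Fin 28 → ℤ) (w : ruLattice), v = (∑ j, c j • uvec j) + (w + ruI w) := by
  obtain ⟨c, z, hz, e⟩ := exists_split (flat_mem v.2)
  refine ⟨c, lvec z hz, lat_ext ?_⟩
  rw [e]
  have hs : ∀ a b : ruLattice, flat ((a + b : ruLattice) : RuVec) = flat (a : RuVec) + flat (b : RuVec) :=
    fun a b => flat_add _ _
  rw [hs, hs, flat_ruI, flat_lvec]
  refine congrArg (· + _) ?_
  have hm := map_sum (flatHom.comp ruLattice.subtype) (fun j => c j • uvec j) Finset.univ
  simp only [map_zsmul] at hm
  exact (hm.trans (Finset.sum_congr rfl fun j _ => congrArg (c j • ·) (flat_lvec _ (mem_span_of_cert (u_cert j))))).symm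

end CfsgLib.Sporadic.RuLattice
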