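import Cfsg.Agent.Lib.Sporadic.RuLattice.Lattice
import Cfsg.Agent.Lib.Sporadic.RuLattice.DataAut
import Cfsg.Agent.Lib.Sporadic.RuLattice.DataSplit

/-! Checks for the reduction modulo one plus i. -/

set_option autoImplicit false
set_option maxRecDepth 100000
set_option Elab.async false

namespace CfsgLib.Sporadic.RuLattice

open Cfsg.Spor CfsgLib.Recognition.RuLattice

/-- A vector given by a list. -/
def ofL (l : List ℤ) : Fin 56 → ℤ := fun q => l.getD q.val 0

/-- The vectors defining the coordinates of the reduction. -/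
def piV (j : Fin 28) : Fin 56 → ℤ := ofL (piVecs.getD j.val [])

/-- Vectors reducing to the standard basis. -/
def uV (j : Fin 28) : Fin 56 → ℤ := ofL (liftVecs.getD j.val [])

theorem pi_cert : ∀ j : Fin 28, cert (piCoef.getD j.val 0) (piV j) = true := by decide +kernel

theorem u_cert : ∀ j : Fin 28, cert (liftCoef.getD j.val 0) (uV j) = true := by decide +kernel

/-- The dot product, as a sum over a list. -/
def dotL (x y : Fin 56 → ℤ) : ℤ := ((List.finRange 56).map fun i => x i * y i).sum

theorem pz_act_gen : ∀ k : Fin 40, ∀ j : Fin 28,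
    dotL (act 0 (gen k)) (piV j) / 4 % 2 = dotL (gen k) (piV j) / 4 % 2 := by
  decide +kernel

theorem pz_act_four : ∀ i : Fin 56, ∀ j : Fin 28,
    dotL (act 0 (Pi.single i 4)) (piV j) / 4 % 2 = dotL (Pi.single i 4) (piV j) / 4 % 2 := by
  decide +kernel

theorem pz_u_check : ∀ i j : Fin 28,
    dotL (uV j) (piV i) / 4 % 2 = if i = j then 1 else 0 := by
  decide +kernel

/-- The spanning vectors: the generators, then four times the unit vectors. -/
def spanVec (k : Fin 96) : Fin 56 → ℤ :=
  if h : k.val < 40 then gen ⟨k.val, h⟩ else fun q => if q.val = k.val - 40 then 4 else 0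

/-- The certificate of a decomposition. -/
noncomputable def splitCertAt (k : ℕ) : Bool :=
  cert (splitCoef.getD k 0) (ofL (splitZ.getD k []))

theorem splitCert0 : allFrom 0 32 splitCertAt = true := by decide +kernel

theorem splitCert1 : allFrom 32 32 splitCertAt = true := by decide +kernel

theorem splitCert2 : allFrom 64 32 splitCertAt = true := by decide +kernel

theorem split_cert (k : Fin 96) : cert (splitCoef.getD k.val 0) (ofL (splitZ.getD k.val [])) = true := by
  obtain ⟨k, hk⟩ := k
  rcases (show k < 32 ∨ (32 ≤ k ∧ k < 64) ∨ 64 ≤ k by omega) with h | h | h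
  · exact of_allFrom_zero splitCert0 h
  · exact allFrom_eq_true.1 splitCert1 k h.1 (by omega)
  · exact allFrom_eq_true.1 splitCert2 k h (by omega)

/-- The decomposition at one spanning vector. -/
def SplitOK (k : Fin 96) : Prop := ∀ q : Fin 56, spanVec k q =
    ((List.finRange 28).map fun j : Fin 28 =>
      if (splitBits.getD k.val 0).testBit j.val then uV j q else 0).sum +
    (ofL (splitZ.getD k.val []) q + act 0 (ofL (splitZ.getD k.val [])) q)

instance (k : Fin 96) : Decidable (SplitOK k) := by unfold SplitOK; infer_instance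

theorem splitOK0 : ∀ k : Fin 32, SplitOK ⟨k.val, by omega⟩ := by decide +kernel

theorem splitOK1 : ∀ k : Fin 32, SplitOK ⟨32 + k.val, by omega⟩ := by decide +kernel

theorem splitOK2 : ∀ k : Fin 32, SplitOK ⟨64 + k.val, by omega⟩ := by decide +kernel

theorem split_check (k : Fin 96) : SplitOK k := by
  rcases (show k.val < 32 ∨ (32 ≤ k.val ∧ k.val < 64) ∨ 64 ≤ k.val by omega) with h | h | h
  · exact splitOK0 ⟨k.val, h⟩
  · have := splitOK1 ⟨k.val - 32, by omega⟩
    rwa [show (⟨32 + (k.val - 32), _⟩ : Fin 96) = k from Fin.ext (by simp only; omega)] at this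
  · have := splitOK2 ⟨k.val - 64, by omega⟩
    rwa [show (⟨64 + (k.val - 64), _⟩ : Fin 96) = k from Fin.ext (by simp only; omega)] at this

end CfsgLib.Sporadic.RuLattice
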