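import Cfsg.Agent.Lib.Sporadic.RuLattice.ScanDefs

/-! Part of the scan of the parity words. -/

set_option autoImplicit false
set_option maxRecDepth 100000
set_option Elab.async false

namespace CfsgLib.Sporadic.RuLattice

open CfsgLib.Recognition.RuLattice

theorem scan0 : allCombo leafT parRest (parShift 0) = true := by decide +kernel

theorem scan1 : allCombo leafT parRest (parShift 1) = true := by decide +kernel

theorem scan2 : allCombo leafT parRest (parShift 2) = true := by decide +kernel

theorem scan3 : allCombo leafT parRest (parShift 3) = true := by decide +kernel

theorem scan4 : allCombo leafT parRest (parShift 4) = true := by decide +kernel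

theorem scan5 : allCombo leafT parRest (parShift 5) = true := by decide +kernel

theorem scan6 : allCombo leafT parRest (parShift 6) = true := by decide +kernel

theorem scan7 : allCombo leafT parRest (parShift 7) = true := by decide +kernel

end CfsgLib.Sporadic.RuLattice
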