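import Cfsg.Agent.Lib.Sporadic.RuLattice.Syndrome

/-! Scan of all parity words: those of weight at most sixteen are listed. -/

set_option autoImplicit false
set_option maxRecDepth 100000

namespace CfsgLib.Sporadic.RuLattice

open CfsgLib.Recognition.RuLattice

/-- A parity word of weight at most sixteen is zero, one of the eights or listed. -/
noncomputable def leafT (a : ℕ) : Bool :=
  Nat.blt 16 (weight a) || a == 0 || eightT.contains a || inT parT 1701 a

/-- The parity words after the first three. -/
def parRest : List ℕ := (parA.map Prod.fst).drop 4

/-- The shift of a part of the scan. -/
def parShift (m : ℕ) : ℕ := combo ((parA.map Prod.fst).take 4) m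

end CfsgLib.Sporadic.RuLattice
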