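import Cfsg.Agent.Lib.Sporadic.RuLattice.Syndrome

/-! Syndromes of at most two positions determine them; the eights admit no such syndrome. -/

set_option autoImplicit false
set_option maxRecDepth 100000
set_option Elab.async false

namespace CfsgLib.Sporadic.RuLattice

open CfsgLib.Recognition.RuLattice

/-- The code of the positions with a given syndrome. -/
noncomputable def posOf (s : ℕ) : ℕ := shortPosT.get (findT shortSumT s 15 0 1597)

theorem pos_zero : inT shortSumT 1597 0 = true ∧ posOf 0 = 0 := by decide +kernel

theorem pos_one : ∀ i : Fin 56, inT shortSumT 1597 (col i) = true ∧ posOf (col i) = i.val + 1 := by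
  decide +kernel

theorem pos_two : ∀ i j : Fin 56, j < i → inT shortSumT 1597 (col i ^^^ col j) = true ∧
    posOf (col i ^^^ col j) = 64 * (i.val + 1) + (j.val + 1) := by
  decide +kernel

/-- The syndrome of a choice of signs inside an eight. -/
noncomputable def eightSum (e : Fin 7) (s : Fin 256) : ℕ :=
  (Finset.univ.filter fun n : Fin 8 => s.val.testBit n.val = true).fold (· ^^^ ·) 0
    fun n => col (eightIdx e n)

theorem eight_short : ∀ e : Fin 7, ∀ s : Fin 256,
    inT shortSumT 1597 (synv (eightT.getD e.val 0) ^^^ eightSum e s) = false := by
  decide +kernel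

theorem eight_weight : ∀ e : Fin 7, weight (eightT.getD e.val 0) = 8 := by decide +kernel

theorem parT_facts : allFrom 0 1701 (fun t => weight (parT.get t) == 16 && parT.get t >>> 56 == 0) =
    true := by
  decide +kernel

theorem synv_zero : synv 0 = 0 := by decide +kernel

theorem four_keys : ∀ i : Fin 56, inT keyT 16240 (key (Pi.single i 4)) = true ∧
    inT keyT 16240 (key (Pi.single i (-4))) = true := by
  decide +kernel

end CfsgLib.Sporadic.RuLattice
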