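import Cfsg.Agent.Lib.Sporadic.RuLattice.Signs

/-! Part of the certificates at the parity words of weight sixteen. -/

set_option autoImplicit false
set_option maxRecDepth 100000
set_option Elab.async false

namespace CfsgLib.Sporadic.RuLattice

theorem certs0_0 : allFrom 0 100 certAt = true := by decide +kernel

theorem certs0_1 : allFrom 100 100 certAt = true := by decide +kernel

theorem certs0_2 : allFrom 200 100 certAt = true := by decide +kernel

theorem certs0 : allFrom 0 300 certAt = true := by
  rw [allFrom_eq_true]
  intro i h1 h2
  rcases (show i < 100 ∨ (100 ≤ i ∧ i < 200) ∨ 200 ≤ i by omega) with h | h | h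
  · exact allFrom_eq_true.1 certs0_0 i h1 (by omega)
  · exact allFrom_eq_true.1 certs0_1 i h.1 (by omega)
  · exact allFrom_eq_true.1 certs0_2 i h (by omega)

end CfsgLib.Sporadic.RuLattice
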