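import Cfsg.Agent.Lib.Sporadic.RuLattice.Syndrome
import Cfsg.Agent.Lib.Sporadic.RuLattice.DataLanes

/-! Sign equations at the parity words of weight sixteen: every solution gives a listed key. -/

set_option autoImplicit false
set_option maxRecDepth 100000

namespace CfsgLib.Sporadic.RuLattice

open CfsgLib.Recognition.RuLattice

/-- The parity of a word. -/
def par (v : ℕ) : Bool := weight v % 2 == 1

theorem par_xor (a b : ℕ) : par (a ^^^ b) = (par a != par b) := by
  have h : ∀ n, (∑ i ∈ Finset.range n, ((a ^^^ b).testBit i).toNat) % 2 =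
      ((∑ i ∈ Finset.range n, (a.testBit i).toNat) + ∑ i ∈ Finset.range n, (b.testBit i).toNat) % 2 := by
    intro n
    induction n with
    | zero => rfl
    | succ n ih =>
      simp only [Finset.sum_range_succ, Nat.testBit_xor] at ih ⊢
      cases a.testBit n <;> cases b.testBit n <;>
        simp only [Bool.xor_false, Bool.false_xor, Bool.xor_true, Bool.true_xor, Bool.not_false,
          Bool.not_true, Bool.toNat_false, Bool.toNat_true] <;> omega
  have := h 56
  simp only [par, weight_eq]
  rcases Nat.mod_two_eq_zero_or_one (∑ i ∈ Finset.range 56, (a.testBit i).toNat) with e | e <;>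
    rcases Nat.mod_two_eq_zero_or_one (∑ i ∈ Finset.range 56, (b.testBit i).toNat) with e' | e' <;>
      rw [this, Nat.add_mod, e, e'] <;> rfl

theorem par_zero : par 0 = false := by decide +kernel

/-- The bits of a syndrome. -/
def sBits (s : ℕ) : List ℕ := (List.range 19).map fun k => s >>> k % 2

theorem combo_bits {u : ℕ} : ∀ {l bl : List ℕ},
    List.Forall₂ (fun g b => b < 2 ∧ par (u &&& g) = (b == 1)) l bl →
    ∀ c, combo bl c < 2 ∧ par (u &&& combo l c) = (combo bl c == 1)
  | _, _, .nil, _ => by simp [combo, par_zero]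
  | g :: l, b :: bl, .cons h1 h2, c => by
    obtain ⟨hlt, e⟩ := combo_bits h2 (c / 2)
    by_cases hc : c % 2 = 1
    · rw [combo, if_pos hc, combo, if_pos hc, Nat.and_xor_distrib_left, par_xor, e, h1.2]
      rcases (show combo bl (c / 2) = 0 ∨ combo bl (c / 2) = 1 by omega) with a | a <;>
        rcases (show b = 0 ∨ b = 1 by have := h1.1; omega) with a' | a' <;>
          rw [a, a'] <;> decide
    · rw [combo, if_neg hc, combo, if_neg hc]
      exact ⟨hlt, e⟩

/-- The union of some positions. -/
def maskL (F : List ℕ) : ℕ := F.foldr (fun i m => 2 ^ i ||| m) 0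

theorem testBit_maskL : ∀ (F : List ℕ) (j : ℕ), (maskL F).testBit j = decide (j ∈ F)
  | [], j => by simp [maskL]
  | i :: F, j => by
    have e : maskL (i :: F) = 2 ^ i ||| maskL F := rfl
    rw [e, Nat.testBit_lor, testBit_maskL F j, Nat.testBit_two_pow]
    by_cases h : i = j
    · subst h; simp
    · simp [h, Ne.symm h]

theorem combo_of_mask : ∀ {F : List ℕ}, F.Nodup → ∀ u, Combo (F.map (2 ^ ·)) (u &&& maskL F)
  | [], _, u => by rw [maskL, List.foldr_nil, Nat.and_zero]; exact .nil
  | i :: F, h, u => by
    rw [List.nodup_cons] at h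
    have ih := combo_of_mask h.2 u
    have hm : maskL (i :: F) = 2 ^ i ||| maskL F := rfl
    cases hu : u.testBit i
    · rw [show u &&& maskL (i :: F) = u &&& maskL F from Nat.eq_of_testBit_eq fun j => by
        simp only [hm, Nat.testBit_and, Nat.testBit_lor, Nat.testBit_two_pow]
        by_cases hj : i = j
        · subst hj; simp [hu]
        · simp [hj]]
      exact ih.skip
    · rw [show u &&& maskL (i :: F) = (u &&& maskL F) ^^^ 2 ^ i from Nat.eq_of_testBit_eq fun j => by
        simp only [hm, Nat.testBit_and, Nat.testBit_lor, Nat.testBit_xor, Nat.testBit_two_pow,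
          testBit_maskL]
        by_cases hj : i = j
        · subst hj; simp [hu, h.1]
        · simp [hj]]
      exact ih.take

/-- The weights of the chosen positions. -/
def sumPow (L : List ℕ) (p : ℕ → Bool) : ℕ := (L.map fun i => if p i then 16 ^ i else 0).sum

/-- The key with all signs positive. -/
def keyP (P : ℕ) : ℕ := keyL (List.ofFn fun i : Fin 56 => if P.testBit i.val then 9 else 8)

/-- The value forced at a pivot, from its equation: a mask below bit 56 and a bit at 56. -/
noncomputable def forced (S : ℕ) (hl : ℕ × ℕ × ℕ) : Bool :=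
  hl.2.2.testBit 56 != par (S &&& hl.2.2)

/-- A free choice of signs gives a listed key. -/
noncomputable def leafS (kp : ℕ) (F : List ℕ) (H : List (ℕ × ℕ × ℕ)) (S : ℕ) : Bool :=
  inT keyT 16240 (kp - 2 * (sumPow F S.testBit +
    (H.map fun hl => if forced S hl then 16 ^ hl.1 else 0).sum))

/-- A pivot equation involves one pivot and otherwise free positions. -/
def pivotOK (P s : ℕ) (F : List ℕ) (hl : ℕ × ℕ × ℕ) : Bool :=
  (combo (parA.map Prod.fst) hl.2.1 &&& P).testBit hl.1 &&
    ((combo (parA.map Prod.fst) hl.2.1 &&& P) ^^^ 2 ^ hl.1) &&& maskL F ==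
      (combo (parA.map Prod.fst) hl.2.1 &&& P) ^^^ 2 ^ hl.1 &&
    hl.2.2 == (((combo (parA.map Prod.fst) hl.2.1 &&& P) ^^^ 2 ^ hl.1) |||
      (combo (sBits s) hl.2.1) <<< 56)

/-- Horner evaluation in lanes of twelve bits. -/
def lanes : List ℕ → ℕ
  | [] => 0
  | a :: l => a + 4096 * lanes l

theorem lanes_ofFn : ∀ {n : ℕ} (f : Fin n → ℕ), lanes (List.ofFn f) = ∑ i, f i * 4096 ^ i.val
  | 0, f => by simp [lanes]
  | n + 1, f => by
    rw [List.ofFn_succ, lanes, lanes_ofFn, Fin.sum_univ_succ, Finset.mul_sum]
    simp only [Fin.val_zero, pow_zero, mul_one, Fin.val_succ, pow_succ]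
    refine congrArg (f 0 + ·) (Finset.sum_congr rfl fun i _ => ?_)
    ring

theorem lanes_digit : ∀ (l : List ℕ) (j : ℕ), (∀ a ∈ l, a < 4096) →
    lanes l >>> (12 * j) % 4096 = l.getD j 0
  | [], j, _ => by simp [lanes]
  | a :: l, 0, h => by
    have := h a List.mem_cons_self
    simp only [lanes, Nat.mul_zero, Nat.shiftRight_zero, List.getD_cons_zero]
    omega
  | a :: l, j + 1, h => by
    have ha := h a List.mem_cons_self
    rw [lanes, List.getD_cons_succ, ← lanes_digit l j fun b hb => h b (List.mem_cons_of_mem _ hb),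
      show 12 * (j + 1) = 12 + 12 * j by ring, Nat.shiftRight_add, Nat.shiftRight_eq_div_pow _ 12]
    congr 2
    omega

/-- The sum of the lanes at the positions of a word. -/
noncomputable def laneSum (P : ℕ) (l : List ℕ) (i : ℕ) : ℕ :=
  List.rec (fun _ => 0)
    (fun g _ ih j => Nat.add (bif Nat.testBit P j then g else 0) (ih (Nat.add j 1))) l i

/-- The syndrome, computed in lanes. -/
noncomputable def synF (P : ℕ) : ℕ :=
  Nat.ofBits fun k : Fin 19 => (laneSum P parLane 0).testBit (12 * k.val + 1)

theorem lane_check : parLane = List.ofFn fun i : Fin 56 =>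
    lanes (List.ofFn fun k : Fin 19 => (liftV k i).toNat) := by
  decide +kernel

theorem lane_bound : ∀ k : Fin 19, ∀ i : Fin 56, 0 ≤ liftV k i ∧ liftV k i < 73 := by decide +kernel

theorem laneSum_ofFn (P : ℕ) : ∀ {n : ℕ} (f : Fin n → ℕ) (i : ℕ),
    laneSum P (List.ofFn f) i = ∑ q : Fin n, if P.testBit (i + q.val) then f q else 0
  | 0, f, i => rfl
  | n + 1, f, i => by
    rw [List.ofFn_succ, Fin.sum_univ_succ]
    show (bif P.testBit i then f 0 else 0) + laneSum P (List.ofFn fun q => f q.succ) (i + 1) = _
    rw [laneSum_ofFn, Bool.cond_eq_ite]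
    refine congrArg₂ (· + ·) (by simp) (Finset.sum_congr rfl fun q _ => ?_)
    rw [Fin.val_succ, Nat.add_assoc, Nat.add_comm 1]

theorem synF_eq (P : ℕ) : synF P = synv P := by
  refine congrArg Nat.ofBits (funext fun k => ?_)
  have e : laneSum P parLane 0 = lanes (List.ofFn fun k : Fin 19 =>
      ∑ i : Fin 56, if P.testBit i.val then (liftV k i).toNat else 0) := by
    rw [lane_check, laneSum_ofFn, lanes_ofFn]
    simp only [Nat.zero_add, lanes_ofFn, Finset.sum_mul]
    rw [Finset.sum_comm]
    refine Finset.sum_congr rfl fun i _ => ?_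
    split_ifs <;> simp [lanes_ofFn]
  have hb : ∀ k : Fin 19, (∑ i : Fin 56, if P.testBit i.val then (liftV k i).toNat else 0) < 4096 := by
    intro k
    refine lt_of_le_of_lt (Finset.sum_le_sum (g := fun _ => 72) fun i _ => ?_) (by simp)
    have := lane_bound k i
    split_ifs <;> omega
  have hd := lanes_digit (List.ofFn fun k : Fin 19 =>
      ∑ i : Fin 56, if P.testBit i.val then (liftV k i).toNat else 0) k.val fun a ha => by
    obtain ⟨j, rfl⟩ := List.mem_ofFn.1 ha
    exact hb j
  rw [List.getD_eq_getElem _ _ (by simp), List.getElem_ofFn, Fin.eta] at hd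
  have hcast : ((List.finRange 56).map fun i => if P.testBit i.val then liftV k i else 0).sum =
      ((∑ i : Fin 56, if P.testBit i.val then (liftV k i).toNat else 0 : ℕ) : ℤ) := by
    rw [← List.sum_toFinset _ (List.nodup_finRange 56), List.toFinset_finRange, Nat.cast_sum]
    refine Finset.sum_congr rfl fun i _ => ?_
    split_ifs
    · exact (Int.toNat_of_nonneg (lane_bound k i).1).symm
    · rfl
  rw [hcast, e, Nat.testBit_eq_decide_div_mod_eq]
  refine Bool.decide_congr ?_
  rw [Nat.shiftRight_eq_div_pow] at hd
  rw [← hd, pow_succ, ← Nat.div_div_eq_div_mul]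
  omega

/-- The certificate at one parity word. -/
noncomputable def certOK (P : ℕ) (c : ℕ × List (ℕ × ℕ × ℕ) × List ℕ) : Bool :=
  bif c.1 == 0 then
    maskL (c.2.2 ++ c.2.1.map Prod.fst) == P && decide (c.2.2 ++ c.2.1.map Prod.fst).Nodup &&
      c.2.1.all (pivotOK P (synF P) c.2.2) &&
      allCombo (leafS (keyP P) c.2.2 c.2.1) (c.2.2.map (2 ^ ·)) 0
  else combo (parA.map Prod.fst) c.1 &&& P == 0 && combo (sBits (synF P)) c.1 == 1

/-- The certificate at position `t`. -/
noncomputable def certAt (t : ℕ) : Bool :=
  certOK (parT.get t) ((parCerts.getD (t / 100) []).getD (t % 100) (0, [], []))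

theorem key_of_certOK {P u : ℕ} {c : ℕ × List (ℕ × ℕ × ℕ) × List ℕ} (hc : certOK P c = true)
    (hP : P < 2 ^ 56) (hu : u &&& P = u)
    (hpar : ∀ k : Fin 19, par (u &&& parW k) = (synv P).testBit k.val) :
    inT keyT 16240 (keyP P - 2 * ∑ i ∈ Finset.range 56, (if u.testBit i then 16 ^ i else 0)) = true := by
  have hF : List.Forall₂ (fun g b => b < 2 ∧ par (u &&& g) = (b == 1)) (parA.map Prod.fst)
      (sBits (synv P)) := by
    rw [parW_list, List.forall₂_iff_get]
    refine ⟨by simp [sBits], fun k h1 h2 => ?_⟩
    simp only [List.length_ofFn] at h1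
    simp only [List.get_eq_getElem, List.getElem_ofFn, sBits, List.getElem_map, List.getElem_range]
    refine ⟨Nat.mod_lt _ two_pos, ?_⟩
    rw [hpar ⟨k, h1⟩, Nat.testBit_eq_decide_div_mod_eq, Nat.shiftRight_eq_div_pow]
    rcases Nat.mod_two_eq_zero_or_one (synv P / 2 ^ k) with e | e <;> rw [e] <;> rfl
  have hlam : ∀ c, par (u &&& combo (parA.map Prod.fst) c) = (combo (sBits (synv P)) c == 1) :=
    fun c => (combo_bits hF c).2
  have hrestr : ∀ v, u &&& (v &&& P) = u &&& v := fun v => by
    rw [Nat.and_comm v P, ← Nat.and_assoc, hu]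
  obtain ⟨none_, H, F⟩ := c
  simp only [certOK, synF_eq] at hc
  cases h0 : none_ == 0 with
  | false =>
    rw [h0, cond_false, Bool.and_eq_true, beq_iff_eq] at hc
    have := hlam none_
    rw [← hrestr, hc.1, Nat.and_zero, par_zero, hc.2] at this
    exact Bool.noConfusion this
  | true =>
    rw [h0, cond_true] at hc
    simp only [Bool.and_eq_true, beq_iff_eq, decide_eq_true_eq, List.all_eq_true] at hc
    obtain ⟨⟨⟨hmask, hnd⟩, hpiv⟩, hall⟩ := hc
    have hleaf := allCombo_spec (combo_of_mask (List.nodup_append.1 hnd).1 u) 0 hall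
    rw [Nat.zero_xor, leafS] at hleaf
    have hfree : ∀ i ∈ F, (u &&& maskL F).testBit i = u.testBit i := fun i hi => by
      simp [testBit_maskL, hi]
    have hforced : ∀ hl ∈ H, forced (u &&& maskL F) hl = u.testBit hl.1 := by
      rintro ⟨h, l, w⟩ hl
      have hp := hpiv _ hl
      simp only [pivotOK, Bool.and_eq_true, beq_iff_eq] at hp
      obtain ⟨⟨hp1, hp2⟩, hp3⟩ := hp
      have hc2 : combo (sBits (synv P)) l < 2 := (combo_bits hF l).1
      have hlo : (combo (parA.map Prod.fst) l &&& P) ^^^ 2 ^ h < 2 ^ 56 := by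
        have h1 : combo (parA.map Prod.fst) l &&& P < 2 ^ 56 := lt_of_le_of_lt Nat.and_le_right hP
        refine Nat.xor_lt_two_pow h1 (Nat.pow_lt_pow_right one_lt_two ?_)
        by_contra hge
        rw [Nat.testBit_lt_two_pow (h1.trans_le (Nat.pow_le_pow_right two_pos (not_lt.1 hge)))] at hp1
        exact Bool.noConfusion hp1
      have hw56 : w.testBit 56 = (combo (sBits (synv P)) l == 1) := by
        rw [hp3, Nat.testBit_lor, Nat.testBit_lt_two_pow hlo, Bool.false_or, Nat.testBit_shiftLeft]
        rcases (show combo (sBits (synv P)) l = 0 ∨ combo (sBits (synv P)) l = 1 by omega) with a | a <;>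
          rw [a] <;> rfl
      have hwS : u &&& maskL F &&& w =
          u &&& maskL F &&& ((combo (parA.map Prod.fst) l &&& P) ^^^ 2 ^ h) := by
        refine Nat.eq_of_testBit_eq fun j => ?_
        simp only [Nat.testBit_and, hp3, Nat.testBit_lor, Nat.testBit_shiftLeft]
        rcases Nat.lt_or_ge j 56 with hj | hj
        · simp [Nat.not_le.2 hj]
        · have h1 : u &&& maskL F < 2 ^ 56 :=
            lt_of_le_of_lt Nat.and_le_left (lt_of_le_of_lt (hu ▸ Nat.and_le_right) hP)
          have h2 := Nat.testBit_lt_two_pow (h1.trans_le (Nat.pow_le_pow_right two_pos hj))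
          rw [Nat.testBit_and] at h2
          rw [h2]
          simp
      simp only [forced, hw56, hwS]
      rw [← hlam, ← hrestr]
      set μ := combo (parA.map Prod.fst) l &&& P
      set ν := μ ^^^ 2 ^ h with hν
      have e2 : u &&& maskL F &&& ν = u &&& ν := by
        rw [Nat.and_assoc, Nat.and_comm (maskL F), hp2]
      have e1 : μ = ν ^^^ 2 ^ h := by rw [hν, Nat.xor_assoc, Nat.xor_self, Nat.xor_zero]
      rw [e2, e1, Nat.and_xor_distrib_left, par_xor]
      have h56 : h < 56 := by
        by_contra hge
        have := Nat.testBit_lt_two_pow ((hP).trans_le (Nat.pow_le_pow_right two_pos (not_lt.1 hge)))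
        have h1 : μ.testBit h = true := hp1
        simp only [μ, Nat.testBit_and, this, Bool.and_false] at h1
        exact Bool.noConfusion h1
      have hbit : par (u &&& 2 ^ h) = u.testBit h := by
        rw [Nat.and_two_pow]
        cases u.testBit h
        · simp [par_zero]
        · simp only [Bool.toNat_true, one_mul, par, weight_eq]
          rw [Finset.sum_eq_single h]
          · simp
          · intro b _ hb; simp [Nat.testBit_two_pow, Ne.symm hb]
          · simp [h56]
      rw [hbit]
      cases par (u &&& ν) <;> cases u.testBit h <;> rfl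
    rw [show ∑ i ∈ Finset.range 56, (if u.testBit i then 16 ^ i else 0) =
      sumPow F (u &&& maskL F).testBit +
        (H.map fun hl => if forced (u &&& maskL F) hl then 16 ^ hl.1 else 0).sum from ?_]
    · exact hleaf
    have e1 : sumPow F (u &&& maskL F).testBit = sumPow F u.testBit :=
      congrArg List.sum (List.map_congr_left fun i hi => by rw [hfree i hi])
    have e2 : (H.map fun hl => if forced (u &&& maskL F) hl then 16 ^ hl.1 else 0).sum =
        sumPow (H.map Prod.fst) u.testBit := by
      rw [sumPow, List.map_map]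
      exact congrArg List.sum (List.map_congr_left fun hl hh => by
        rw [hforced hl hh]; rfl)
    rw [e1, e2, sumPow, sumPow, ← List.sum_append, ← List.map_append, ← List.sum_toFinset _ hnd]
    refine (Finset.sum_subset (fun i hi => ?_) fun i _ hi => ?_).symm
    · rw [List.mem_toFinset] at hi
      rw [Finset.mem_range]
      by_contra hge
      have h1 : P.testBit i = true := by rw [← hmask, testBit_maskL]; simpa using hi
      rw [Nat.testBit_lt_two_pow (hP.trans_le (Nat.pow_le_pow_right two_pos (not_lt.1 hge)))] at h1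
      exact Bool.noConfusion h1
    · rw [List.mem_toFinset] at hi
      rw [if_neg]
      intro hb
      have h1 : P.testBit i = true := by
        have := congrArg (fun v => v.testBit i) hu
        simp only [Nat.testBit_and, hb, Bool.true_and] at this
        exact this
      rw [← hmask, testBit_maskL, decide_eq_true_eq] at h1
      exact hi h1

end CfsgLib.Sporadic.RuLattice
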